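import Mathlib
import Cfsg.Agent.ClassicalGeometry.AutPSL.Root
import Cfsg.Agent.LieClassical.SLGen
import Cfsg.Agent.H79.OrbitDual
import Cfsg.Agent.ClassicalGeometry.AutPSL.SylowU
import Cfsg.Agent.H183.OutPSL
import Cfsg.Agent.S2119
import Cfsg.Agent.H893.PPow
import Cfsg.Agent.S2543
import Cfsg.Agent.H363.PSL2Spec
import Cfsg.Agent.H352.Order120
import Cfsg.Agent.H495.Frob
import Cfsg.Agent.FastGrp
import Cfsg.Agent.Prune
set_option linter.all false

section
prune_inst 0x7f00000000000000000000000000000000000000000000000000000000000000000000000000000000000000000000000000000000000000000000000000000000000000000000000000000000000000003fffffffffffffffffffffffffffaeffbdffffffff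

-- part: H561/PPRowA
section
set_option linter.all false
open scoped Cfsg.Agent.FastGrp

-- part: H79/MinIdxSL/Basic
section
/-!
# Transvections of `SL ι F`: transitivity and the commutative groups `U e`

`tr e φ h` is the transvection `1 + e φᵀ`; `perp e` the group of the `φ` with `φ e = 0`;
`U e` the action data (`OrbitDual.Act`) of `perp e` through `φ ↦ tr e φ`.
-/

set_option autoImplicit false
set_option linter.unusedSectionVars false

namespace Cfsg.Agent.H79.MinIdxSL

open Matrix Cfsg.Agent.ClassicalGeometry.AutPSL.Root Cfsg.Agent.H79.OrbitDual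

variable {ι F : Type*} [Fintype ι] [DecidableEq ι] [Field F]

theorem tr_smul (a φ : ι → F) (h : φ ⬝ᵥ a = 0) (x : ι → F) :
    tr a φ h • x = x + (φ ⬝ᵥ x) • a := by
  rw [Matrix.SpecialLinearGroup.smul_def, Matrix.smul_eq_mulVec, tr_mulVec]

theorem smul_eq_mulVec' (g : _root_.Matrix.SpecialLinearGroup ι F) (x : ι → F) :
    g • x = (g : Matrix ι ι F) *ᵥ x := by
  rw [Matrix.SpecialLinearGroup.smul_def, Matrix.smul_eq_mulVec]

theorem sl_ext' {A B : _root_.Matrix.SpecialLinearGroup ι F} (h : ∀ x : ι → F, A • x = B • x) : A = B :=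
  Cfsg.Agent.LieClassical.SLGen.smul_ext h

/-- The action on linear forms. -/
def co (g : _root_.Matrix.SpecialLinearGroup ι F) (φ : ι → F) : ι → F :=
  φ ᵥ* ((g⁻¹ : _root_.Matrix.SpecialLinearGroup ι F) : Matrix ι ι F)

theorem co_dot (g : _root_.Matrix.SpecialLinearGroup ι F) (φ x : ι → F) :
    co g φ ⬝ᵥ x = φ ⬝ᵥ (g⁻¹ • x) := by
  rw [co, ← dotProduct_mulVec, smul_eq_mulVec']

theorem co_dot_smul (g : _root_.Matrix.SpecialLinearGroup ι F) (φ x : ι → F) :
    co g φ ⬝ᵥ (g • x) = φ ⬝ᵥ x := by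
  rw [co_dot, inv_smul_smul]

theorem dot_ext {φ ψ : ι → F} (h : ∀ x : ι → F, φ ⬝ᵥ x = ψ ⬝ᵥ x) : φ = ψ := by
  ext i
  have := h (Pi.single i 1)
  rwa [dotProduct_single, dotProduct_single, mul_one, mul_one] at this

theorem co_mul (g h : _root_.Matrix.SpecialLinearGroup ι F) (φ : ι → F) : co (g * h) φ = co g (co h φ) := by
  apply dot_ext
  intro x
  rw [co_dot, co_dot, co_dot, _root_.mul_inv_rev, mul_smul]

theorem co_one (φ : ι → F) : co 1 φ = φ := by
  apply dot_ext
  intro x
  rw [co_dot, inv_one, one_smul]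

theorem co_co_inv (g : _root_.Matrix.SpecialLinearGroup ι F) (φ : ι → F) : co g (co g⁻¹ φ) = φ := by
  rw [← co_mul, mul_inv_cancel, co_one]

theorem co_perp {g : _root_.Matrix.SpecialLinearGroup ι F} {φ e : ι → F} (h : φ ⬝ᵥ e = 0) :
    co g φ ⬝ᵥ (g • e) = 0 := by
  rw [co_dot_smul, h]

theorem conj_tr (g : _root_.Matrix.SpecialLinearGroup ι F) (e φ : ι → F) (h : φ ⬝ᵥ e = 0) :
    g * tr e φ h * g⁻¹ = tr (g • e) (co g φ) (co_perp h) := by
  apply sl_ext'
  intro x
  rw [mul_smul, mul_smul, tr_smul, tr_smul, co_dot, smul_add, smul_inv_smul]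
  congr 1
  rw [smul_eq_mulVec' g ((φ ⬝ᵥ _) • e), mulVec_smul, ← smul_eq_mulVec']

theorem tr_congr {e e' φ φ' : ι → F} {h : φ ⬝ᵥ e = 0} {h' : φ' ⬝ᵥ e' = 0} (he : e = e')
    (hφ : φ = φ') : tr e φ h = tr e' φ' h' := by
  subst he
  subst hφ
  rfl

/-- A linear form vanishing on a subspace and with value one at a vector outside. -/
theorem exists_fn (S : Submodule F (ι → F)) {v : ι → F} (hv : v ∉ S) :
    ∃ ψ : ι → F, (∀ u ∈ S, ψ ⬝ᵥ u = 0) ∧ ψ ⬝ᵥ v = 1 := by
  obtain ⟨f, hf, hS⟩ := Submodule.exists_dual_map_eq_bot_of_notMem hv inferInstance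
  have hform : ∀ x : ι → F, (fun i => f (Pi.single i 1)) ⬝ᵥ x = f x := by
    intro x
    conv_rhs => rw [← Finset.univ_sum_single x]
    rw [map_sum, dotProduct]
    refine Finset.sum_congr rfl fun i _ => ?_
    have h1 : (Pi.single i (x i) : ι → F) = x i • Pi.single i 1 := by
      rw [← Pi.single_smul, smul_eq_mul, mul_one]
    rw [h1, map_smul, smul_eq_mul, mul_comm]
  refine ⟨(f v)⁻¹ • fun i => f (Pi.single i 1), fun u hu => ?_, ?_⟩
  · rw [smul_dotProduct, hform]
    have h1 : f u ∈ Submodule.map f S := Submodule.mem_map_of_mem hu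
    rw [hS, Submodule.mem_bot] at h1
    rw [h1, smul_zero]
  · rw [smul_dotProduct, hform, smul_eq_mul, inv_mul_cancel₀ hf]

/-- The linear forms vanishing at `e`. -/
def perp (e : ι → F) : AddSubgroup (ι → F) where
  carrier := {φ | φ ⬝ᵥ e = 0}
  zero_mem' := zero_dotProduct e
  add_mem' := by
    intro φ ψ h h'
    change (φ + ψ) ⬝ᵥ e = 0
    rw [add_dotProduct, show φ ⬝ᵥ e = 0 from h, show ψ ⬝ᵥ e = 0 from h', add_zero]
  neg_mem' := by
    intro φ h
    change (-φ) ⬝ᵥ e = 0
    rw [neg_dotProduct, show φ ⬝ᵥ e = 0 from h, neg_zero]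

variable {X : Type*} [MulAction (_root_.Matrix.SpecialLinearGroup ι F) X]

/-- The orthogonality relation. -/
def kap (χ : AddChar F ℂ) (e : ι → F) (φ : perp e) (w : ι → F) : Prop := χ (φ.1 ⬝ᵥ w) = 1

section Finite

variable [Finite F]

/-- A character of `F` which is trivial on `c F` only for `c = 0`. -/
theorem exists_char (F : Type*) [Field F] [Finite F] :
    ∃ χ : AddChar F ℂ, ∀ c : F, (∀ x, χ (c * x) = 1) → c = 0 := by
  obtain ⟨χ, hχ⟩ := (AddChar.exists_apply_ne_zero (a := (1 : F))).2 one_ne_zero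
  refine ⟨χ, fun c hc => ?_⟩
  by_contra h
  apply hχ
  have := hc (c⁻¹ * 1)
  rwa [mul_inv_cancel_left₀ h] at this

variable {χ : AddChar F ℂ} (hχ : ∀ c : F, (∀ x, χ (c * x) = 1) → c = 0)

end Finite

end Cfsg.Agent.H79.MinIdxSL
end

-- part: H561/PPSL
section
/-!
# Subgroups of `PSL(d, q)` of index `(q ^ d - 1) / (q - 1)`

`psl_point` : such a subgroup is mapped by an automorphism of `PSL(d, q)` onto the stabiliser of a
point.
-/

set_option autoImplicit false

namespace Cfsg.Agent.H561.PPSL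

open Matrix Subgroup Cfsg.Agent.ClassicalGeometry.AutPSL.Root
  Cfsg.Agent.ClassicalGeometry.AutPSL.Auto Cfsg.Agent.ClassicalGeometry.AutPSL.SylowU
  Cfsg.Agent.H79.MinIdxSL
open scoped LinearAlgebra.Projectivization

section General

variable {ι F : Type*} [Fintype ι] [DecidableEq ι] [Field F]

/-- `A` contains all transvections with centre `e`. -/
def Full (A : Subgroup (_root_.Matrix.SpecialLinearGroup ι F)) (e : ι → F) : Prop :=
  ∀ φ (h : φ ⬝ᵥ e = 0), tr e φ h ∈ A

variable {A : Subgroup (_root_.Matrix.SpecialLinearGroup ι F)}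

theorem Full.map {g : _root_.Matrix.SpecialLinearGroup ι F} (hg : g ∈ A) {e : ι → F} (he : Full A e) :
    Full A (g • e) := by
  intro φ h
  have h1 : co g⁻¹ φ ⬝ᵥ e = 0 := by rw [co_dot, inv_inv, h]
  have h2 := conj_tr g e (co g⁻¹ φ) h1
  have h3 : tr (g • e) (co g (co g⁻¹ φ)) (co_perp h1) = tr (g • e) φ h :=
    tr_congr rfl (co_co_inv g φ)
  rw [← h3, ← h2]
  exact A.mul_mem (A.mul_mem hg (he _ h1)) (A.inv_mem hg)

theorem Full.smul {e : ι → F} (he : Full A e) (c : F) : Full A (c • e) := by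
  intro φ h
  have h1 : (c • φ) ⬝ᵥ e = 0 := by
    rw [smul_dotProduct, ← dotProduct_smul]; exact h
  have h2 : tr (c • e) φ h = tr e (c • φ) h1 := by
    apply sl_ext'
    intro x
    rw [tr_smul, tr_smul, smul_dotProduct, smul_eq_mul, smul_smul, mul_comm]
  rw [h2]
  exact he _ h1

theorem Full.add {e f : ι → F} (he : Full A e) (hf : Full A f) : Full A (e + f) := by
  by_cases h : e ∈ Submodule.span F {f}
  · obtain ⟨c, rfl⟩ := Submodule.mem_span_singleton.1 h
    have : c • f + f = (c + 1) • f := by rw [add_smul, one_smul]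
    rw [this]
    exact hf.smul _
  · obtain ⟨ψ, h1, h2⟩ := exists_fn _ h
    have h3 : ψ ⬝ᵥ f = 0 := h1 f (Submodule.mem_span_singleton_self f)
    have h4 := he.map (hf ψ h3)
    rwa [tr_smul, h2, one_smul] at h4

/-- The span of the centres. -/
def WW (A : Subgroup (_root_.Matrix.SpecialLinearGroup ι F)) : Submodule F (ι → F) where
  carrier := {e | Full A e}
  zero_mem' := by
    intro φ h
    have : tr (0 : ι → F) φ h = 1 := by
      apply sl_ext'
      intro x
      rw [tr_smul, smul_zero, add_zero, one_smul]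
    rw [this]
    exact A.one_mem
  add_mem' := fun h1 h2 => Full.add h1 h2
  smul_mem' := fun c _ h => Full.smul h c

theorem smul_mem_WW {g : _root_.Matrix.SpecialLinearGroup ι F} (hg : g ∈ A) {e : ι → F} (he : e ∈ WW A) :
    g • e ∈ WW A := Full.map hg he

theorem eq_top_of_WW (h : WW A = ⊤) : A = ⊤ := by
  have h1 : ∀ e : ι → F, Full A e := fun e => by
    have : e ∈ WW A := by rw [h]; exact Submodule.mem_top
    exact this
  rw [eq_top_iff, ← Cfsg.Agent.LieClassical.SLGen.closure_transvections, Subgroup.closure_le]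
  rintro g hg
  obtain ⟨i, j, hij, c, rfl⟩ := hg
  rw [transvection_eq_tr]
  exact h1 _ _ _

end General

section Fin

variable {d : ℕ} {F : Type*} [Field F] [Fintype F]
variable {A : Subgroup (_root_.Matrix.SpecialLinearGroup (Fin d) F)}

theorem single_zero_mem (hd : 2 ≤ d) (hU : upper d F ≤ A) :
    (Pi.single ⟨0, by omega⟩ 1 : Fin d → F) ∈ WW A := by
  intro φ h
  apply hU
  rw [mem_upper]
  obtain ⟨z, hz⟩ : ∃ z : Fin d, z = ⟨0, by omega⟩ := ⟨_, rfl⟩
  intro i j hij
  rw [coe_tr, Matrix.add_apply, Matrix.one_apply, vecMulVec_apply, ← hz]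
  have h0 : φ z = 0 := by
    rw [dotProduct_single, mul_one, ← hz] at h
    exact h
  by_cases hi : i = z
  · have hj : j = z := by
      rw [hi] at hij
      apply Fin.ext
      have h1 : (j : ℕ) ≤ (z : ℕ) := hij
      have h2 : (z : ℕ) = 0 := by rw [hz]
      omega
    rw [hj, h0, mul_zero, add_zero]
  · rw [Pi.single_eq_of_ne hi, zero_mul, add_zero]

/-- The shape of `WW A`. -/
theorem exists_shape (hd : 2 ≤ d) (hU : upper d F ≤ A) :
    ∃ m : Fin d, ∀ w : Fin d → F, w ∈ WW A ↔ ∀ k, m < k → w k = 0 := by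
  classical
  let S : Finset (Fin d) := Finset.univ.filter fun k => ∃ w ∈ WW A, w k ≠ 0
  have hS : S.Nonempty := by
    refine ⟨⟨0, by omega⟩, ?_⟩
    rw [Finset.mem_filter]
    refine ⟨Finset.mem_univ _, _, single_zero_mem hd hU, ?_⟩
    rw [Pi.single_eq_same]
    exact one_ne_zero
  obtain ⟨m, hm, hmax⟩ := S.exists_max_image id hS
  rw [Finset.mem_filter] at hm
  obtain ⟨-, w₀, hw₀, hw₀m⟩ := hm
  have hle : ∀ w ∈ WW A, ∀ k, m < k → w k = 0 := by
    intro w hw k hk
    by_contra hne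
    have : k ∈ S := by
      rw [Finset.mem_filter]
      exact ⟨Finset.mem_univ _, w, hw, hne⟩
    exact absurd (hmax k this) (not_le.2 hk)
  have hc : ∀ c, c < m → (Pi.single c 1 : Fin d → F) ∈ WW A := by
    intro c hcm
    have h1 : SpecialLinearGroup.transvection hcm.ne (1 : F) • w₀ ∈ WW A :=
      smul_mem_WW (hU (transvection_mem_upper hcm 1)) hw₀
    rw [Cfsg.Agent.LieClassical.SLGen.transvection_smul, one_mul] at h1
    have h2 := (WW A).sub_mem h1 hw₀
    rw [add_sub_cancel_left] at h2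
    have h3 := (WW A).smul_mem (w₀ m)⁻¹ h2
    rwa [smul_smul, inv_mul_cancel₀ hw₀m, one_smul] at h3
  have hlow : ∀ w : Fin d → F, (∀ k, m ≤ k → w k = 0) → w ∈ WW A := by
    intro w hw
    have h1 : w = ∑ c, w c • (Pi.single c 1 : Fin d → F) := by
      conv_lhs => rw [← Finset.univ_sum_single w]
      refine Finset.sum_congr rfl fun i _ => ?_
      rw [← Pi.single_smul, smul_eq_mul, mul_one]
    rw [h1]
    refine (WW A).sum_mem fun c _ => ?_
    by_cases hcm : c < m
    · exact (WW A).smul_mem _ (hc c hcm)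
    · rw [hw c (not_lt.1 hcm), zero_smul]
      exact (WW A).zero_mem
  have hmm : (Pi.single m 1 : Fin d → F) ∈ WW A := by
    have h1 : w₀ - w₀ m • (Pi.single m 1 : Fin d → F) ∈ WW A := by
      apply hlow
      intro k hk
      rw [Pi.sub_apply, Pi.smul_apply, smul_eq_mul]
      rcases eq_or_lt_of_le hk with rfl | hlt
      · rw [Pi.single_eq_same, mul_one, sub_self]
      · rw [hle w₀ hw₀ k hlt, Pi.single_eq_of_ne hlt.ne', mul_zero, sub_zero]
    have h2 := (WW A).sub_mem hw₀ h1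
    rw [sub_sub_cancel] at h2
    have h3 := (WW A).smul_mem (w₀ m)⁻¹ h2
    rwa [smul_smul, inv_mul_cancel₀ hw₀m, one_smul] at h3
  refine ⟨m, fun w => ⟨hle w, fun hw => ?_⟩⟩
  have h1 : w - w m • (Pi.single m 1 : Fin d → F) ∈ WW A := by
    apply hlow
    intro k hk
    rw [Pi.sub_apply, Pi.smul_apply, smul_eq_mul]
    rcases eq_or_lt_of_le hk with rfl | hlt
    · rw [Pi.single_eq_same, mul_one, sub_self]
    · rw [hw k hlt, Pi.single_eq_of_ne hlt.ne', mul_zero, sub_zero]
  have h2 := (WW A).add_mem h1 ((WW A).smul_mem (w m) hmm)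
  rwa [sub_add_cancel] at h2

/-- the lower unipotent matrices -/
def Lm (m : Fin d) (f : {r : Fin d // m < r} × {c : Fin d // c ≤ m} → F) :
    Matrix (Fin d) (Fin d) F :=
  Matrix.of fun r c => if h : m < r ∧ c ≤ m then f (⟨r, h.1⟩, ⟨c, h.2⟩) else 0

omit [Fintype F] in
theorem det_Lm (m : Fin d) (f : {r : Fin d // m < r} × {c : Fin d // c ≤ m} → F) :
    (1 + Lm m f).det = 1 := by
  rw [Matrix.det_of_lowerTriangular]
  · rw [Finset.prod_eq_one]
    intro i _
    rw [Matrix.add_apply, Matrix.one_apply_eq, Lm, Matrix.of_apply, dif_neg, add_zero]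
    rintro ⟨h1, h2⟩
    exact absurd h1 (not_lt.2 h2)
  · intro i j hij
    have hij' : i < j := hij
    rw [Matrix.add_apply, Matrix.one_apply_ne hij'.ne, Lm, Matrix.of_apply, dif_neg, add_zero]
    rintro ⟨h1, h2⟩
    exact absurd (h1.trans hij') (not_lt.2 h2)

/-- the elements -/
def Ls (m : Fin d) (f : {r : Fin d // m < r} × {c : Fin d // c ≤ m} → F) :
    _root_.Matrix.SpecialLinearGroup (Fin d) F := ⟨1 + Lm m f, det_Lm m f⟩

omit [Fintype F] in
theorem Ls_smul_single (m : Fin d) (f : {r : Fin d // m < r} × {c : Fin d // c ≤ m} → F)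
    (c : Fin d) (k : Fin d) : (Ls m f • (Pi.single c 1 : Fin d → F)) k =
      (Pi.single c 1 : Fin d → F) k + Lm m f k c := by
  rw [smul_eq_mulVec']
  change ((1 + Lm m f) *ᵥ Pi.single c 1) k = _
  rw [Matrix.add_mulVec, Matrix.one_mulVec, Pi.add_apply, Matrix.mulVec_single_one]
  rfl

omit [Fintype F] in
theorem Ls_smul_of_zero (m : Fin d) (f : {r : Fin d // m < r} × {c : Fin d // c ≤ m} → F)
    (z : Fin d → F) (hz : ∀ k, k ≤ m → z k = 0) : Ls m f • z = z := by
  rw [smul_eq_mulVec']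
  change (1 + Lm m f) *ᵥ z = _
  rw [Matrix.add_mulVec, Matrix.one_mulVec]
  have : Lm m f *ᵥ z = 0 := by
    funext k
    rw [Matrix.mulVec, dotProduct, Pi.zero_apply]
    refine Finset.sum_eq_zero fun j _ => ?_
    by_cases hj : j ≤ m
    · rw [hz j hj, mul_zero]
    · rw [Lm, Matrix.of_apply, dif_neg (fun h => hj h.2), zero_mul]
  rw [this, add_zero]

theorem le_index {m : Fin d} (hm : ∀ w : Fin d → F, w ∈ WW A ↔ ∀ k, m < k → w k = 0) :
    Fintype.card F ^ ((d - 1 - m) * (m + 1)) ≤ A.index := by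
  classical
  let ψ : ({r : Fin d // m < r} × {c : Fin d // c ≤ m} → F) →
    _root_.Matrix.SpecialLinearGroup (Fin d) F ⧸ A := fun f => QuotientGroup.mk (Ls m f)
  have hψ : Function.Injective ψ := by
    intro f g hfg
    have h1 : (Ls m f)⁻¹ * Ls m g ∈ A := QuotientGroup.eq.1 hfg
    funext ⟨⟨r, hr⟩, ⟨c, hc⟩⟩
    have hcW : (Pi.single c 1 : Fin d → F) ∈ WW A := by
      rw [hm]
      intro k hk
      rw [Pi.single_eq_of_ne]
      rintro rfl
      exact absurd hk (not_lt.2 hc)
    have h2 := smul_mem_WW h1 hcW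
    -- compute the image
    let z : Fin d → F := fun k => Lm m g k c - Lm m f k c
    have hz : ∀ k, k ≤ m → z k = 0 := by
      intro k hk
      change Lm m g k c - Lm m f k c = 0
      rw [Lm, Lm, Matrix.of_apply, Matrix.of_apply, dif_neg (fun h => absurd h.1 (not_lt.2 hk)),
        dif_neg (fun h => absurd h.1 (not_lt.2 hk)), sub_zero]
    have h3 : ((Ls m f)⁻¹ * Ls m g) • (Pi.single c 1 : Fin d → F) = Pi.single c 1 + z := by
      rw [mul_smul, inv_smul_eq_iff, smul_add, Ls_smul_of_zero m f z hz]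
      funext k
      rw [Ls_smul_single, Pi.add_apply, Ls_smul_single]
      change _ = _ + _ + (Lm m g k c - Lm m f k c)
      ring
    rw [h3] at h2
    have h4 := (hm _).1 h2 r hr
    have hrc : r ≠ c := by
      rintro rfl
      exact absurd hr (not_lt.2 hc)
    rw [Pi.add_apply, Pi.single_eq_of_ne hrc, zero_add] at h4
    have h5 : Lm m g r c - Lm m f r c = 0 := h4
    rw [Lm, Lm, Matrix.of_apply, Matrix.of_apply, dif_pos ⟨hr, hc⟩, dif_pos ⟨hr, hc⟩,
      sub_eq_zero] at h5
    exact h5.symm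
  have h1 := Nat.card_le_card_of_injective ψ hψ
  have h2 : Nat.card ({r : Fin d // m < r} × {c : Fin d // c ≤ m} → F) =
      Fintype.card F ^ ((d - 1 - m) * (m + 1)) := by
    rw [Nat.card_eq_fintype_card, Fintype.card_fun, Fintype.card_prod]
    have h3 : Fintype.card {r : Fin d // m < r} = d - 1 - m := by
      rw [Fintype.card_subtype]
      have : (Finset.univ.filter fun r : Fin d => m < r) = Finset.Ioi m := by
        ext; simp only [_root_.Finset.mem_filter, _root_.Finset.mem_univ, _root_.true_and, _root_.Finset.mem_Ioi]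
      rw [this, Fin.card_Ioi]
    have h4 : Fintype.card {c : Fin d // c ≤ m} = m + 1 := by
      rw [Fintype.card_subtype]
      have : (Finset.univ.filter fun r : Fin d => r ≤ m) = Finset.Iic m := by
        ext; simp only [_root_.Finset.mem_filter, _root_.Finset.mem_univ, _root_.true_and, _root_.Finset.mem_Iic]
      rw [this, Fin.card_Iic]
    rw [h3, h4]
  rw [h2] at h1
  exact h1

/-- the first point -/
def pt (d : ℕ) (F : Type*) [Field F] (i : Fin d) : ℙ F (Fin d → F) :=
  Projectivization.mk F (Pi.single i 1 : Fin d → F) (by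
    intro h
    have := congrFun h i
    rw [Pi.single_eq_same] at this
    exact one_ne_zero this)

omit [Fintype F] in
theorem mem_stab_pt {i : Fin d} {g : _root_.Matrix.SpecialLinearGroup (Fin d) F} {c : F}
    (h : g • (Pi.single i 1 : Fin d → F) = c • (Pi.single i 1 : Fin d → F)) :
    g ∈ MulAction.stabilizer (_root_.Matrix.SpecialLinearGroup (Fin d) F) (pt d F i) := by
  rw [MulAction.mem_stabilizer_iff, pt, Projectivization.smul_mk, Projectivization.mk_eq_mk_iff']
  refine ⟨c, h.symm⟩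

theorem index_stab (x : ℙ F (Fin d → F)) :
    (MulAction.stabilizer (_root_.Matrix.SpecialLinearGroup (Fin d) F) x).index * (Fintype.card F - 1) =
      Fintype.card F ^ d - 1 := by
  have htr : MulAction.IsPretransitive (_root_.Matrix.SpecialLinearGroup (Fin d) F) (ℙ F (Fin d → F)) :=
    inferInstance
  rw [MulAction.index_stabilizer_of_transitive, ← Nat.card_eq_fintype_card (α := F),
    ← Projectivization.card F (Fin d → F), Nat.card_fun, Nat.card_fin]

theorem eq_of_le_stab {B : Subgroup (_root_.Matrix.SpecialLinearGroup (Fin d) F)}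
    (hB : B.index * (Fintype.card F - 1) = Fintype.card F ^ d - 1) {x : ℙ F (Fin d → F)}
    (h : B ≤ MulAction.stabilizer (_root_.Matrix.SpecialLinearGroup (Fin d) F) x) :
    B = MulAction.stabilizer (_root_.Matrix.SpecialLinearGroup (Fin d) F) x := by
  have hq : 1 < Fintype.card F := Fintype.one_lt_card
  have h1 := index_stab (F := F) x
  have h2 : B.index = (MulAction.stabilizer (_root_.Matrix.SpecialLinearGroup (Fin d) F) x).index :=
    Nat.eq_of_mul_eq_mul_right (by omega) (hB.trans h1.symm)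
  have h3 := Subgroup.relIndex_mul_index h
  have h4 : (MulAction.stabilizer (_root_.Matrix.SpecialLinearGroup (Fin d) F) x).index ≠ 0 :=
    Subgroup.index_ne_zero_of_finite
  rw [h2] at h3
  have h5 : B.relIndex (MulAction.stabilizer (_root_.Matrix.SpecialLinearGroup (Fin d) F) x) = 1 :=
    Nat.eq_of_mul_eq_mul_right (Nat.pos_of_ne_zero h4) (by rw [h3, one_mul])
  exact le_antisymm h (Subgroup.relIndex_eq_one.1 h5)

/-- The main statement for `SL`. -/
theorem sl_point (hd : 2 ≤ d) (hU : upper d F ≤ A)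
    (hA : A.index * (Fintype.card F - 1) = Fintype.card F ^ d - 1) :
    ∃ γ : MulAut (_root_.Matrix.SpecialLinearGroup (Fin d) F), ∀ g, g ∈ A ↔
      γ g ∈ MulAction.stabilizer (_root_.Matrix.SpecialLinearGroup (Fin d) F) (pt d F ⟨0, by omega⟩) := by
  have hq : 1 < Fintype.card F := Fintype.one_lt_card
  have htr : MulAction.IsPretransitive (_root_.Matrix.SpecialLinearGroup (Fin d) F) (ℙ F (Fin d → F)) :=
    inferInstance
  obtain ⟨m, hm⟩ := exists_shape hd hU
  -- conjugation of the stabiliser of a point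
  have hconj : ∀ (x : ℙ F (Fin d → F)) (γ : MulAut (_root_.Matrix.SpecialLinearGroup (Fin d) F)),
      (∀ g, g ∈ A → γ g ∈ MulAction.stabilizer (_root_.Matrix.SpecialLinearGroup (Fin d) F) x) →
      ∃ γ : MulAut (_root_.Matrix.SpecialLinearGroup (Fin d) F), ∀ g, g ∈ A ↔
      γ g ∈ MulAction.stabilizer (_root_.Matrix.SpecialLinearGroup (Fin d) F) (pt d F ⟨0, by omega⟩) := by
    intro x γ hγ
    have h1 : A.map γ.toMonoidHom = MulAction.stabilizer (_root_.Matrix.SpecialLinearGroup (Fin d) F) x := by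
      apply eq_of_le_stab
      · rw [← hA]
        congr 1
        exact A.index_map_equiv γ
      · rintro _ ⟨g, hg, rfl⟩
        exact hγ g hg
    obtain ⟨h, hh⟩ := MulAction.exists_smul_eq (_root_.Matrix.SpecialLinearGroup (Fin d) F) x
      (pt d F ⟨0, by omega⟩)
    refine ⟨MulAut.conj h * γ, fun g => ?_⟩
    have h2 : g ∈ A ↔ γ g ∈ MulAction.stabilizer (_root_.Matrix.SpecialLinearGroup (Fin d) F) x := by
      rw [← h1]
      constructor
      · intro hg
        exact ⟨g, hg, rfl⟩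
      · rintro ⟨y, hy, hyg⟩
        exact γ.injective hyg ▸ hy
    rw [h2, MulAction.mem_stabilizer_iff, MulAction.mem_stabilizer_iff, ← hh, MulAut.mul_apply,
      MulAut.conj_apply, mul_smul, mul_smul, inv_smul_smul, smul_left_cancel_iff]
  have hlt : Fintype.card F ^ ((d - 1 - m) * (m + 1)) < Fintype.card F ^ d := by
    have h1 := le_index hm
    have h2 : 1 ≤ Fintype.card F ^ d := Nat.one_le_pow _ _ (by omega)
    have h3 : A.index * 1 ≤ A.index * (Fintype.card F - 1) := Nat.mul_le_mul_left _ (by omega)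
    omega
  have hlt2 : (d - 1 - m) * (m + 1) < d := (Nat.pow_lt_pow_iff_right hq).1 hlt
  have hmd : (m : ℕ) < d := m.2
  have hm3 : (m : ℕ) = 0 ∨ (m : ℕ) = d - 1 ∨ (m : ℕ) + 2 = d := by
    by_contra hcon
    push Not at hcon
    obtain ⟨h1, h2, h3⟩ := hcon
    obtain ⟨a, ha⟩ : ∃ a, (m : ℕ) = a + 1 := ⟨m - 1, by omega⟩
    obtain ⟨b, hb⟩ : ∃ b, d = a + 1 + 3 + b := ⟨d - (a + 4), by (clear * - h2 h3 ha; omega)⟩
    rw [ha] at hlt2
    have h4 : d - 1 - (a + 1) = 2 + b := by omega
    rw [h4] at hlt2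
    have h5 : (2 + b) * (a + 1 + 1) = 2 * a + 4 + b * a + 2 * b := by ring
    rw [h5] at hlt2
    linarith only [hlt2, hb, Nat.zero_le (b * a)]
  rcases hm3 with h0 | h0 | h0
  · -- a point
    refine hconj (pt d F ⟨0, by omega⟩) 1 fun g hg => ?_
    rw [MulAut.one_apply]
    have h1 : (Pi.single ⟨0, by omega⟩ 1 : Fin d → F) ∈ WW A := single_zero_mem hd hU
    have h2 := smul_mem_WW hg h1
    rw [hm] at h2
    refine mem_stab_pt (c := (g • (Pi.single ⟨0, by omega⟩ 1 : Fin d → F)) ⟨0, by omega⟩) ?_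
    funext k
    rw [Pi.smul_apply, smul_eq_mul]
    by_cases hk : k = ⟨0, by omega⟩
    · subst hk
      rw [Pi.single_eq_same, mul_one]
    · rw [Pi.single_eq_of_ne hk, mul_zero]
      apply h2
      rw [Fin.lt_def, h0]
      exact Nat.pos_of_ne_zero fun h => hk (Fin.ext h)
  · -- everything
    exfalso
    have h1 : WW A = ⊤ := by
      rw [eq_top_iff]
      intro w _
      rw [hm]
      intro k hk
      rw [Fin.lt_def, h0] at hk
      have := k.2
      omega
    rw [eq_top_of_WW h1, Subgroup.index_top, one_mul] at hA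
    have h2 : Fintype.card F ^ 1 < Fintype.card F ^ d := Nat.pow_lt_pow_right hq (by omega)
    rw [pow_one] at h2
    omega
  · -- a hyperplane
    let l : Fin d := ⟨d - 1, by omega⟩
    have hml : m < l := by
      rw [Fin.lt_def]
      change (m : ℕ) < d - 1
      omega
    refine hconj (pt d F l) itr fun g hg => ?_
    have hgi := A.inv_mem hg
    refine mem_stab_pt (c := ((g⁻¹ : _root_.Matrix.SpecialLinearGroup (Fin d) F) :
      Matrix (Fin d) (Fin d) F) l l) ?_
    rw [smul_eq_mulVec', coe_itr]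
    funext k
    rw [Matrix.mulVec_single_one, Pi.smul_apply, smul_eq_mul]
    change (((g⁻¹ : _root_.Matrix.SpecialLinearGroup (Fin d) F) : Matrix (Fin d) (Fin d) F)ᵀ) k l = _
    rw [Matrix.transpose_apply]
    by_cases hk : k = l
    · subst hk
      rw [Pi.single_eq_same, mul_one]
    · rw [Pi.single_eq_of_ne hk, mul_zero]
      have h1 : (Pi.single k 1 : Fin d → F) ∈ WW A := by
        rw [hm]
        intro j hj
        have hjl : j = l := by
          apply Fin.ext
          rw [Fin.lt_def] at hj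
          have := j.2
          change (j : ℕ) = d - 1
          omega
        rw [hjl, Pi.single_eq_of_ne (Ne.symm hk)]
      have h2 := smul_mem_WW hgi h1
      rw [hm] at h2
      have h3 := h2 l hml
      rw [smul_eq_mulVec', Matrix.mulVec_single_one] at h3
      exact h3

end Fin

/-- A subgroup of index prime to `r` contains a conjugate of every `r`-subgroup. -/
theorem exists_conj_le {G : Type*} [Group G] [Finite G] (A : Subgroup G) (r : ℕ) [hr : Fact r.Prime]
    (hA : ¬ r ∣ A.index) (S : Subgroup G) (hS : IsPGroup r S) :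
    ∃ g : G, ∀ s ∈ S, g⁻¹ * s * g ∈ A := by
  have h1 : ¬ r ∣ Nat.card (G ⧸ A) := hA
  have h2 : (MulAction.fixedPoints S (G ⧸ A)).Nonempty :=
    IsPGroup.nonempty_fixed_point_of_prime_not_dvd_card hS (G ⧸ A) h1
  obtain ⟨x, hx⟩ := h2
  obtain ⟨g, rfl⟩ := QuotientGroup.mk_surjective x
  refine ⟨g, fun s hs => ?_⟩
  have h3 : (QuotientGroup.mk g : G ⧸ A) = QuotientGroup.mk (s * g) := (hx ⟨s, hs⟩).symm
  have h4 := QuotientGroup.eq.1 h3
  rwa [← mul_assoc] at h4

/-- The stabiliser of the first point in `PSL`. -/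
def PP (d : ℕ) (hd : 2 ≤ d) (F : Type*) [Field F] :
    Subgroup (Matrix.ProjectiveSpecialLinearGroup (Fin d) F) :=
  (MulAction.stabilizer (_root_.Matrix.SpecialLinearGroup (Fin d) F) (pt d F ⟨0, by omega⟩)).map pr

theorem pr_mem_PP {d : ℕ} (hd : 2 ≤ d) {F : Type*} [Field F]
    {g : _root_.Matrix.SpecialLinearGroup (Fin d) F} : pr g ∈ PP d hd F ↔
      g ∈ MulAction.stabilizer (_root_.Matrix.SpecialLinearGroup (Fin d) F) (pt d F ⟨0, by omega⟩) := by
  have hker : (pr : _root_.Matrix.SpecialLinearGroup (Fin d) F →* _).ker ≤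
      MulAction.stabilizer (_root_.Matrix.SpecialLinearGroup (Fin d) F) (pt d F ⟨0, by omega⟩) := by
    intro z hz
    rw [MonoidHom.mem_ker, pr_eq_one_iff, ← Projectivization.SL_mulAction_ker,
      MonoidHom.mem_ker] at hz
    rw [MulAction.mem_stabilizer_iff]
    have := congrArg (fun f => f (pt d F ⟨0, by omega⟩)) hz
    exact this
  have h1 := Subgroup.comap_map_eq_self hker
  rw [← h1]
  rfl

/-- **Main theorem.** -/
theorem psl_point {d : ℕ} (hd : 2 ≤ d) {F : Type*} [Field F] [Fintype F]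
    (A : Subgroup (Matrix.ProjectiveSpecialLinearGroup (Fin d) F))
    (hA : A.index * (Fintype.card F - 1) = Fintype.card F ^ d - 1) :
    ∃ γ : MulAut (Matrix.ProjectiveSpecialLinearGroup (Fin d) F), ∀ t, t ∈ A ↔ γ t ∈ PP d hd F := by
  have hq : 1 < Fintype.card F := Fintype.one_lt_card
  obtain ⟨r, hr⟩ := CharP.exists F
  have hrp : r.Prime := CharP.char_is_prime F r
  have : Fact r.Prime := ⟨hrp⟩
  have hfin : Finite (Matrix.ProjectiveSpecialLinearGroup (Fin d) F) := inferInstance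
  -- the index is prime to `r`
  have hri : ¬ r ∣ A.index := by
    intro hdvd
    obtain ⟨k, -, hk⟩ := FiniteField.card F r
    have hrq : r ∣ Fintype.card F := by
      rw [hk]
      exact dvd_pow_self r k.ne_zero
    have h1 : r ∣ Fintype.card F ^ d := hrq.trans (dvd_pow_self _ (by omega))
    have h2 : r ∣ Fintype.card F ^ d - 1 := by
      rw [← hA]
      exact hdvd.mul_right _
    have h3 : r ∣ 1 := by
      have h4 : 1 ≤ Fintype.card F ^ d := Nat.one_le_pow _ _ (by omega)
      have := (Nat.dvd_sub h1 h2)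
      rwa [Nat.sub_sub_self h4] at this
    exact hrp.one_lt.ne' (Nat.dvd_one.1 h3)
  obtain ⟨S, hS⟩ := exists_sylow (F := F) d r
  obtain ⟨g, hg⟩ := exists_conj_le A r hri (S : Subgroup _) S.2
  -- the conjugate containing the unitriangular group
  let B : Subgroup (Matrix.ProjectiveSpecialLinearGroup (Fin d) F) :=
    A.map (MulAut.conj g).toMonoidHom
  have hB : ∀ t, MulAut.conj g t ∈ B ↔ t ∈ A := by
    intro t
    constructor
    · rintro ⟨s, hs, hst⟩
      exact (MulAut.conj g).injective hst ▸ hs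
    · intro ht
      exact ⟨t, ht, rfl⟩
  have hBi : B.index = A.index := A.index_map_equiv (MulAut.conj g)
  have hU : upper d F ≤ B.comap pr := by
    intro u hu
    have h1 : pr u ∈ (S : Subgroup _) := by
      rw [hS]
      exact ⟨u, hu, rfl⟩
    have h2 := (hB _).2 (hg _ h1)
    rw [MulAut.conj_apply] at h2
    have h3 : g * (g⁻¹ * pr u * g) * g⁻¹ = pr u := by group
    rw [h3] at h2
    exact h2
  have hBi' : (B.comap pr).index = A.index := by
    rw [Subgroup.index_comap_of_surjective B pr_surjective, hBi]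
  obtain ⟨γ, hγ⟩ := sl_point hd hU (by rw [hBi', hA])
  refine ⟨lift γ * MulAut.conj g, fun t => ?_⟩
  rw [← hB t, MulAut.mul_apply]
  obtain ⟨x, hx⟩ := pr_surjective (MulAut.conj g t)
  rw [← hx, lift_pr, pr_mem_PP, ← hγ]
  rfl

end Cfsg.Agent.H561.PPSL
end

-- part: H561/PPOut
section
/-!
# Simple groups with abelian outer automorphism group

`OutAb T` : any two automorphisms commute up to an inner automorphism.
-/

set_option autoImplicit false

namespace Cfsg.Agent.H561.PPow

open Subgroup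

/-- The outer automorphism group is abelian. -/
def OutAb (T : Type*) [Group T] : Prop :=
  ∀ α β : MulAut T, ∃ u : T, α * β = MulAut.conj u * β * α

variable {T T' : Type*} [Group T] [Group T']

theorem OutAb.of_equiv (f : T ≃* T') (h : OutAb T') : OutAb T := by
  intro α β
  obtain ⟨u, hu⟩ := h ((f.symm.trans α).trans f) ((f.symm.trans β).trans f)
  refine ⟨f.symm u, ?_⟩
  ext t
  have h2 := DFunLike.congr_fun hu (f t)
  simp only [MulAut.mul_apply, MulEquiv.trans_apply, MulEquiv.symm_apply_apply,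
    MulAut.conj_apply] at h2 ⊢
  have h3 := congrArg f.symm h2
  rw [MulEquiv.symm_apply_apply, map_mul, map_mul, map_inv, MulEquiv.symm_apply_apply] at h3
  exact h3

theorem OutAb.of_mem (h : ∀ α β : MulAut T, α * β * α⁻¹ * β⁻¹ ∈
    (MulAut.conj : T →* MulAut T).range) : OutAb T := by
  intro α β
  obtain ⟨u, hu⟩ := h α β
  refine ⟨u, ?_⟩
  rw [hu]
  group

theorem OutAb.of_out (h : ∀ x y : Cfsg.Out T, x * y = y * x) : OutAb T := by
  apply OutAb.of_mem
  intro α β
  have h1 := h (QuotientGroup.mk α) (QuotientGroup.mk β)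
  have h2 : ((α * β * α⁻¹ * β⁻¹ : MulAut T) : Cfsg.Out T) = 1 := by
    rw [QuotientGroup.mk_mul, QuotientGroup.mk_mul, QuotientGroup.mk_mul, QuotientGroup.mk_inv,
      QuotientGroup.mk_inv, h1]
    group
  exact (QuotientGroup.eq_one_iff _).1 h2

theorem OutAb.of_inner (h : ∀ φ : MulAut T, ∃ u : T, φ = MulAut.conj u) : OutAb T := by
  apply OutAb.of_mem
  intro α β
  obtain ⟨u, hu⟩ := h (α * β * α⁻¹ * β⁻¹)
  exact ⟨u, hu.symm⟩

theorem OutAb.of_index_two (h : (MulAut.conj : T →* MulAut T).range.index = 2) : OutAb T := by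
  apply OutAb.of_mem
  intro α β
  have h1 := fun a b => Subgroup.mul_mem_iff_of_index_two h (a := a) (b := b)
  rw [h1, h1, h1, Subgroup.inv_mem_iff, Subgroup.inv_mem_iff]
  (clear * -; tauto)

theorem outAb_psl_two {F : Type*} [Field F] [Fintype F] (h4 : 4 ≤ Fintype.card F) :
    OutAb (Matrix.ProjectiveSpecialLinearGroup (Fin 2) F) := by
  obtain ⟨p, hp⟩ := CharP.exists F
  have : Fact p.Prime := ⟨CharP.char_is_prime F p⟩
  obtain ⟨f', -, hF'⟩ := FiniteField.card F p
  obtain ⟨f, hf⟩ : ∃ f : ℕ, f = (f' : ℕ) := ⟨_, rfl⟩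
  have hF : Fintype.card F = p ^ f := by rw [hf]; exact hF'
  have hf1 : 1 ≤ f := by rw [hf]; exact f'.one_le
  obtain ⟨φ, hφ, hcyc, hcard⟩ := Cfsg.Agent.H183.OutPSL.out_two (F := F) hf1 hF
    (by rw [← hF]; exact h4)
  apply OutAb.of_out
  have hle : Nat.card φ.ker ≤ 2 := by
    rw [hcard]
    exact Nat.gcd_le_left _ (by norm_num)
  -- the kernel is central
  have hcen : φ.ker ≤ Subgroup.center (Cfsg.Out (Matrix.ProjectiveSpecialLinearGroup (Fin 2) F)) := by
    intro z hz
    rw [Subgroup.mem_center_iff]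
    intro g
    by_contra hne
    have hz1 : z ≠ 1 := by
      rintro rfl
      exact hne (by rw [mul_one, one_mul])
    have h2 : g * z * g⁻¹ ∈ φ.ker := φ.normal_ker.conj_mem z hz g
    have h3 : g * z * g⁻¹ ≠ z := by
      intro h
      apply hne
      calc g * z = g * z * g⁻¹ * g := by group
        _ = z * g := by rw [h]
    have h4 : g * z * g⁻¹ ≠ 1 := by
      intro h
      apply hz1
      rw [mul_inv_eq_one] at h
      exact mul_eq_left.1 h
    have h5 : Nat.card φ.ker ≠ 0 := by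
      rw [hcard]
      exact (Nat.gcd_pos_of_pos_left _ (by norm_num)).ne'
    have h6 : Finite φ.ker := Nat.finite_of_card_ne_zero h5
    let ψ : Fin 3 → φ.ker := ![1, ⟨z, hz⟩, ⟨g * z * g⁻¹, h2⟩]
    have hψ : Function.Injective ψ := by
      intro a b hab
      fin_cases a <;> fin_cases b
      · rfl
      · exact absurd (congrArg Subtype.val hab).symm hz1
      · exact absurd (congrArg Subtype.val hab).symm h4
      · exact absurd (congrArg Subtype.val hab) hz1
      · rfl
      · exact absurd (congrArg Subtype.val hab).symm h3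
      · exact absurd (congrArg Subtype.val hab) h4
      · exact absurd (congrArg Subtype.val hab) h3
      · rfl
    have h7 := Nat.card_le_card_of_injective ψ hψ
    rw [Nat.card_fin] at h7
    omega
  have hc : IsCyclic (Multiplicative (ZMod f)) := inferInstance
  have hcomm := MonoidHom.isMulCommutative_of_isCyclic_of_ker_le_center φ hcen
  exact fun x y => hcomm.is_comm.comm x y

theorem outAb_psl {d : ℕ} (hd : 3 ≤ d) {F : Type*} [Field F] [Fintype F]
    (hg : Nat.gcd d (Fintype.card F - 1) = 1) :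
    OutAb (Matrix.ProjectiveSpecialLinearGroup (Fin d) F) := by
  obtain ⟨p, hp⟩ := CharP.exists F
  have : Fact p.Prime := ⟨CharP.char_is_prime F p⟩
  obtain ⟨f', -, hF'⟩ := FiniteField.card F p
  obtain ⟨f, hf⟩ : ∃ f : ℕ, f = (f' : ℕ) := ⟨_, rfl⟩
  have hF : Fintype.card F = p ^ f := by rw [hf]; exact hF'
  have hf1 : 1 ≤ f := by rw [hf]; exact f'.one_le
  obtain ⟨φ, hφ, hcyc, hcard⟩ := Cfsg.Agent.H183.OutPSL.out_three (F := F) hf1 hF hd
  rw [← hF, hg, Subgroup.card_eq_one] at hcard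
  have hinj : Function.Injective φ := (MonoidHom.ker_eq_bot_iff φ).1 hcard
  apply OutAb.of_out
  intro x y
  apply hinj
  rw [map_mul, map_mul, mul_comm]

theorem outAb_alt {n : ℕ} (hn : 4 ≤ n) (h6 : n ≠ 6) : OutAb (alternatingGroup (Fin n)) := by
  obtain ⟨-, hsurj⟩ := Cfsg.Agent.S2119.result n hn h6
  apply OutAb.of_mem
  intro α β
  obtain ⟨σ, rfl⟩ := hsurj α
  obtain ⟨τ, rfl⟩ := hsurj β
  have h1 : σ * τ * σ⁻¹ * τ⁻¹ ∈ alternatingGroup (Fin n) := by
    rw [Equiv.Perm.mem_alternatingGroup, map_mul, map_mul, map_mul, map_inv, map_inv,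
      mul_comm (Equiv.Perm.sign σ) (Equiv.Perm.sign τ), mul_assoc (Equiv.Perm.sign τ),
      mul_inv_cancel, mul_one, mul_inv_cancel]
  refine ⟨⟨_, h1⟩, ?_⟩
  rw [← map_mul, ← map_inv, ← map_mul, ← map_inv, ← map_mul]
  ext x
  rfl

end Cfsg.Agent.H561.PPow
end

-- part: H561/PPEquiv
section
/-!
# Equivalence of actions under automorphisms

* `exists_equiv` : transitive actions whose point stabilisers correspond under `σ : G ≃* G`
  are equivalent through `σ`;
* `exists_aut_of_regular` : an abelian normal subgroup which is regular in two actions gives an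
  automorphism matching the point stabilisers.
-/

set_option autoImplicit false

namespace Cfsg.Agent.H561.PPow

open MulAction

/-- transitive actions whose point stabilisers correspond under an automorphism are equivalent -/
theorem exists_equiv {G Ω₁ Ω₂ : Type*} [Group G] [MulAction G Ω₁] [MulAction G Ω₂]
    [IsPretransitive G Ω₁] [IsPretransitive G Ω₂] (x₁ : Ω₁) (x₂ : Ω₂) (σ : G ≃* G)
    (h : ∀ g : G, g • x₁ = x₁ ↔ σ g • x₂ = x₂) :
    ∃ f : Ω₁ ≃ Ω₂, ∀ (g : G) (x : Ω₁), f (g • x) = σ g • f x := by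
  classical
  have hex : ∀ x : Ω₁, ∃ g : G, g • x₁ = x := fun x => exists_smul_eq G x₁ x
  choose c hc using hex
  have hwd : ∀ g g' : G, g • x₁ = g' • x₁ → σ g • x₂ = σ g' • x₂ := by
    intro g g' hg
    have h1 : (g'⁻¹ * g) • x₁ = x₁ := by rw [mul_smul, hg, inv_smul_smul]
    have h2 := (h _).mp h1
    rw [map_mul, map_inv, mul_smul, inv_smul_eq_iff] at h2
    exact h2
  have hwd' : ∀ g g' : G, σ g • x₂ = σ g' • x₂ → g • x₁ = g' • x₁ := by
    intro g g' hg
    have h1 : σ (g'⁻¹ * g) • x₂ = x₂ := by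
      rw [map_mul, map_inv, mul_smul, hg, inv_smul_smul]
    have h2 := (h _).mpr h1
    rw [mul_smul, inv_smul_eq_iff] at h2
    exact h2
  let F : Ω₁ → Ω₂ := fun x => σ (c x) • x₂
  have hF : ∀ g : G, F (g • x₁) = σ g • x₂ := fun g => hwd _ _ (hc (g • x₁))
  have hinj : Function.Injective F := by
    intro x y hxy
    have := hwd' (c x) (c y) hxy
    rwa [hc, hc] at this
  have hsurj : Function.Surjective F := by
    intro y
    obtain ⟨g, hg⟩ := exists_smul_eq G x₂ y
    refine ⟨σ.symm g • x₁, ?_⟩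
    rw [hF, MulEquiv.apply_symm_apply, hg]
  refine ⟨Equiv.ofBijective F ⟨hinj, hsurj⟩, fun g x => ?_⟩
  change F (g • x) = σ g • F x
  conv_lhs => rw [← hc x, ← mul_smul]
  rw [hF, map_mul, mul_smul]

/-- An abelian normal subgroup which is regular in both actions. -/
theorem exists_aut_of_regular {G Ω₁ Ω₂ : Type*} [Group G] [MulAction G Ω₁] [MulAction G Ω₂]
    (N : Subgroup G) [hN : N.Normal] (hc : ∀ x ∈ N, ∀ y ∈ N, x * y = y * x) (x₁ : Ω₁) (x₂ : Ω₂)
    (h1 : ∀ g : G, ∃ n ∈ N, n • x₁ = g • x₁) (h1' : ∀ n ∈ N, n • x₁ = x₁ → n = 1)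
    (h2 : ∀ g : G, ∃ n ∈ N, n • x₂ = g • x₂) (h2' : ∀ n ∈ N, n • x₂ = x₂ → n = 1) :
    ∃ σ : G ≃* G, ∀ g : G, g • x₁ = x₁ ↔ σ g • x₂ = x₂ := by
  classical
  choose π hπN hπ using h1
  choose ρ hρN hρ using h2
  have hπu : ∀ g n : G, n ∈ N → n • x₁ = g • x₁ → n = π g := by
    intro g n hn hng
    have := h1' ((π g)⁻¹ * n) (N.mul_mem (N.inv_mem (hπN g)) hn) (by
      rw [mul_smul, hng, ← hπ g, inv_smul_smul])
    rw [inv_mul_eq_one] at this
    exact this.symm
  have hρu : ∀ g n : G, n ∈ N → n • x₂ = g • x₂ → n = ρ g := by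
    intro g n hn hng
    have := h2' ((ρ g)⁻¹ * n) (N.mul_mem (N.inv_mem (hρN g)) hn) (by
      rw [mul_smul, hng, ← hρ g, inv_smul_smul])
    rw [inv_mul_eq_one] at this
    exact this.symm
  have hcj : ∀ g n : G, n ∈ N → g * n * g⁻¹ ∈ N := fun g n hn => hN.conj_mem n hn g
  have hπm : ∀ g g' : G, π (g * g') = g * π g' * g⁻¹ * π g := by
    intro g g'
    symm
    apply hπu _ _ (N.mul_mem (hcj _ _ (hπN g')) (hπN g))
    rw [mul_smul, hπ g, ← mul_smul, mul_smul g g', ← hπ g', ← mul_smul]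
    congr 1
    group
  have hρm : ∀ g g' : G, ρ (g * g') = g * ρ g' * g⁻¹ * ρ g := by
    intro g g'
    symm
    apply hρu _ _ (N.mul_mem (hcj _ _ (hρN g')) (hρN g))
    rw [mul_smul, hρ g, ← mul_smul, mul_smul g g', ← hρ g', ← mul_smul]
    congr 1
    group
  let z : G → G := fun g => π g * (ρ g)⁻¹
  have hzN : ∀ g, z g ∈ N := fun g => N.mul_mem (hπN g) (N.inv_mem (hρN g))
  have hzm : ∀ g g', z (g * g') = z g * (g * z g' * g⁻¹) := by
    intro g g'
    change π (g * g') * (ρ (g * g'))⁻¹ = π g * (ρ g)⁻¹ * (g * (π g' * (ρ g')⁻¹) * g⁻¹)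
    rw [hπm, hρm]
    have e1 : g * (π g' * (ρ g')⁻¹) * g⁻¹ = (g * π g' * g⁻¹) * (g * ρ g' * g⁻¹)⁻¹ := by group
    rw [e1, mul_inv_rev]
    have ha := hcj g _ (hπN g')
    have hb := N.inv_mem (hcj g _ (hρN g'))
    have hp := hπN g
    have hr := N.inv_mem (hρN g)
    generalize g * π g' * g⁻¹ = a at *
    generalize (g * ρ g' * g⁻¹)⁻¹ = b at *
    generalize π g = p at *
    generalize (ρ g)⁻¹ = r at *
    calc a * p * (r * b) = (a * (p * r)) * b := by group
      _ = ((p * r) * a) * b := by rw [hc a ha _ (N.mul_mem hp hr)]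
      _ = p * r * (a * b) := by group
  have hz1 : ∀ n ∈ N, z n = 1 := by
    intro n hn
    have e1 := hπu n n hn rfl
    have e2 := hρu n n hn rfl
    change π n * (ρ n)⁻¹ = 1
    rw [← e1, ← e2, mul_inv_cancel]
  have hzl : ∀ n ∈ N, ∀ g, z (n * g) = z g := by
    intro n hn g
    rw [hzm, hz1 n hn, one_mul, hc n hn (z g) (hzN g)]
    group
  let σ : G ≃* G :=
    { toFun := fun g => z g * g
      invFun := fun g => (z g)⁻¹ * g
      left_inv := fun g => by
        change (z (z g * g))⁻¹ * (z g * g) = g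
        rw [hzl _ (hzN g)]
        group
      right_inv := fun g => by
        change z ((z g)⁻¹ * g) * ((z g)⁻¹ * g) = g
        rw [hzl _ (N.inv_mem (hzN g))]
        group
      map_mul' := fun g g' => by
        change z (g * g') * (g * g') = z g * g * (z g' * g')
        rw [hzm]
        group }
  refine ⟨σ, fun g => ?_⟩
  have hσ : σ g • x₂ = π g • x₂ := by
    change (z g * g) • x₂ = π g • x₂
    rw [mul_smul, ← hρ g, ← mul_smul]
    congr 1
    change π g * (ρ g)⁻¹ * ρ g = π g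
    group
  rw [hσ, ← hπ g]
  constructor
  · intro h
    rw [h1' _ (hπN g) h, one_smul]
  · intro h
    rw [h2' _ (hπN g) h, one_smul]

end Cfsg.Agent.H561.PPow
end

-- part: H561/PPRed
section
/-!
# Primitive actions of the same prime power degree: reduction to simple groups

`equiv_of_row` : two faithful primitive actions of the same prime power degree `p ^ k` are
equivalent under an automorphism of the group, if for all simple factors `T` any two subgroups of
the same index `p ^ j > 1` are conjugate in `Aut T` and `Out T` is abelian (`Row T p`).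
-/

set_option autoImplicit false

namespace Cfsg.Agent.H561.PPow

open Subgroup MulAction Cfsg.Agent.Lib.MinNormal Cfsg.Agent.H893 Cfsg.Agent.H893.Fac

/-- what is needed of a simple group `T` -/
def Row (T : Type*) [Group T] (p : ℕ) : Prop :=
  ∀ (A B : Subgroup T) (j : ℕ), 1 ≤ j → A.index = p ^ j → B.index = p ^ j →
    (∀ α β : MulAut T, ∃ u : T, α * β = MulAut.conj u * β * α) ∧
    ∃ γ : MulAut T, ∀ t : T, t ∈ A ↔ γ t ∈ B

theorem Row.of_equiv {T T' : Type*} [Group T] [Group T'] {p : ℕ} (f : T ≃* T') (h : Row T' p) :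
    Row T p := by
  intro A B j hj hA hB
  have hidx : ∀ A : Subgroup T, (A.map f.toMonoidHom).index = A.index := fun A =>
    A.index_map_equiv f
  have hmem : ∀ (A : Subgroup T) (t : T), f t ∈ A.map f.toMonoidHom ↔ t ∈ A := by
    intro A t
    constructor
    · rintro ⟨s, hs, hst⟩
      exact f.injective hst ▸ hs
    · intro ht
      exact ⟨t, ht, rfl⟩
  obtain ⟨h1, γ, hγ⟩ := h (A.map f.toMonoidHom) (B.map f.toMonoidHom) j hj
    (by rw [hidx, hA]) (by rw [hidx, hB])
  refine ⟨fun α β => ?_, (f.trans γ).trans f.symm, fun t => ?_⟩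
  · obtain ⟨u, hu⟩ := h1 ((f.symm.trans α).trans f) ((f.symm.trans β).trans f)
    refine ⟨f.symm u, ?_⟩
    ext t
    have h2 := DFunLike.congr_fun hu (f t)
    simp only [MulAut.mul_apply, MulEquiv.trans_apply, MulEquiv.symm_apply_apply,
      MulAut.conj_apply] at h2 ⊢
    have h3 := congrArg f.symm h2
    rw [MulEquiv.symm_apply_apply, map_mul, map_mul, map_inv, MulEquiv.symm_apply_apply] at h3
    exact h3
  · rw [← hmem A, hγ, ← hmem B]
    simp only [MulEquiv.trans_apply, MulEquiv.apply_symm_apply]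

section Fac

variable {G Ω : Type*} [Group G] [MulAction G Ω]
variable {N : Subgroup G} {m : ℕ} {T : Fin m → Subgroup G} {e : N ≃* (∀ i, T i)}

/-- product form and index of the intersections with the factors -/
theorem prod_form [Finite G] [FaithfulSMul G Ω] [Finite Ω] {p k : ℕ} (hp : p.Prime) (hk : 1 ≤ k)
    (hΩ : Nat.card Ω = p ^ k) (hG : IsPreprimitive G Ω) [N.Normal] (hN : N ≠ ⊥)
    (h : Fac N m T e) :
    (∀ ω : Ω, ∀ n : N, (n : G) ∈ stabilizer G ω ↔
        ∀ i, ((e n i : T i) : G) ∈ stabilizer G ω) ∧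
      (∀ ω : Ω, ∀ i, ∃ j, 1 ≤ j ∧ ((stabilizer G ω).subgroupOf (T i)).index = p ^ j) := by
  have hcard : 1 < Nat.card Ω := by rw [hΩ]; exact Nat.one_lt_pow (by omega) hp.one_lt
  have hntΩ : Nontrivial Ω := Finite.one_lt_card_iff_nontrivial.mp hcard
  have htrG : IsPretransitive G Ω := inferInstance
  obtain ⟨htr, hKN, hNK⟩ := prim_normal hG N hN
  have hTdvd : ∀ i, ¬ Nat.card (T i) ∣ p ^ k := fun i hdvd =>
    not_simple_of_card_prime_pow hp hdvd (h.simple i) (h.nonab i)
  have key : ∀ ω : Ω, (∀ n : N, (n : G) ∈ stabilizer G ω ↔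
      ∀ i, ((e n i : T i) : G) ∈ stabilizer G ω) := by
    intro ω
    set H := stabilizer G ω with hH
    have hsc := h.scott H (hKN ω) (hNK ω)
      (fun X hX hKX hinv => prim_max_inv hG N ω X hX hKX hinv)
    rcases hsc with hA | ⟨c, hcc, hc2, hc3, hc4⟩
    · exact hA
    · exfalso
      -- a factor which meets `H` trivially
      obtain ⟨i, hi, -⟩ : ∃ i, c i ≠ i ∧ True := by
        obtain ⟨j, hj, hjc⟩ := hc2 ⟨0, h.pos⟩
        by_cases h0 : c ⟨0, h.pos⟩ = ⟨0, h.pos⟩
        · refine ⟨j, ?_, trivial⟩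
          rw [hjc, h0]
          exact hj.symm
        · exact ⟨_, h0, trivial⟩
      have h1 : ∀ t : T i, (t : G) ∈ H → t = 1 := by
        classical
        intro t ht
        have h1 := hc3 (e.symm (Pi.mulSingle i t)) (by rw [h.single]; exact ht) (by
          intro j
          rw [MulEquiv.apply_symm_apply, Pi.mulSingle_eq_of_ne]
          rintro h4
          apply hi
          rw [← h4, hcc])
        have h2 := h.single i t
        rw [h1] at h2
        exact Subtype.ext h2.symm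
      have h2 := index_subgroupOf_dvd N (T i) (h.le i) (h.norm i) ω
      have h3 : (stabilizer G ω).subgroupOf (T i) = ⊥ := by
        rw [eq_bot_iff]
        intro x hx
        rw [Subgroup.mem_bot]
        exact h1 x hx
      rw [h3, Subgroup.index_bot, hΩ] at h2
      exact hTdvd i h2
  refine ⟨key, ?_⟩
  intro ω i
  have h2 := index_subgroupOf_dvd N (T i) (h.le i) (h.norm i) ω
  rw [hΩ] at h2
  obtain ⟨j, -, hj⟩ := (Nat.dvd_prime_pow hp).mp h2
  refine ⟨j, ?_, hj⟩
  by_contra hj0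
  have hj0' : j = 0 := by omega
  rw [hj0', pow_zero, Subgroup.index_eq_one, subgroupOf_eq_top] at hj
  apply hNK ω
  intro n hn
  apply (key ω ⟨n, hn⟩).mpr
  intro l
  obtain ⟨g, hg⟩ := h.trans i l
  obtain ⟨n', hn', hgn⟩ := hKN ω g
  have h1 : (T i).map (MulAut.conj n').toMonoidHom = T i :=
    mem_normalizer_iff_map_conj_eq.mp (h.norm i hn')
  have h4 : T l = (T i).map (MulAut.conj (g * n')).toMonoidHom := by
    rw [← map_conj_map_conj, h1, hg]
  obtain ⟨s, hs, hsn⟩ := (SetLike.ext_iff.mp h4 _).mp (e ⟨n, hn⟩ l).2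
  rw [← hsn]
  exact (stabilizer G ω).mul_mem ((stabilizer G ω).mul_mem hgn (hj hs))
    ((stabilizer G ω).inv_mem hgn)

/-- `N` acts on `T i` through the coordinate `i`. -/
theorem conj_single (h : Fac N m T e) (n : N) (i : Fin m) (t : G) (ht : t ∈ T i) :
    (n : G) * t * (n : G)⁻¹ = (e n i : G) * t * (e n i : G)⁻¹ := by
  classical
  have h1 : (⟨t, h.le i ht⟩ : N) = e.symm (Pi.mulSingle i ⟨t, ht⟩) := by
    apply Subtype.ext
    rw [h.single]
  have h2 : n * ⟨t, h.le i ht⟩ * n⁻¹ =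
      e.symm (Pi.mulSingle i (e n i * ⟨t, ht⟩ * (e n i)⁻¹)) := by
    apply e.injective
    rw [MulEquiv.apply_symm_apply, map_mul, map_mul, h1, MulEquiv.apply_symm_apply, map_inv]
    funext l
    by_cases hl : l = i
    · subst hl
      simp only [_root_.Pi.mul_apply, _root_.Pi.mulSingle_eq_same, _root_.Pi.inv_apply]
    · simp only [Pi.mulSingle_eq_of_ne hl, _root_.Pi.mul_apply, _root_.mul_one, _root_.Pi.inv_apply, _root_.mul_inv_cancel]
  have h3 := congrArg (Subtype.val) h2
  rw [h.single] at h3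
  exact h3

/-- all the indices are equal to the same power of `p` -/
theorem index_eq [Finite G] [FaithfulSMul G Ω] [Finite Ω] {p k : ℕ} (hp : p.Prime) (hk : 1 ≤ k)
    (hΩ : Nat.card Ω = p ^ k) (hG : IsPreprimitive G Ω) [N.Normal] (hN : N ≠ ⊥)
    (h : Fac N m T e) (ω : Ω) (i : Fin m) (j : ℕ)
    (hj : ((stabilizer G ω).subgroupOf (T i)).index = p ^ j) : j * m = k := by
  classical
  obtain ⟨htr, hKN, hNK⟩ := prim_normal hG N hN
  obtain ⟨hpf, -⟩ := prod_form hp hk hΩ hG hN h
  -- all factors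
  have hall : ∀ l, ((stabilizer G ω).subgroupOf (T l)).index = p ^ j := by
    intro l
    obtain ⟨g, hg⟩ := h.trans i l
    obtain ⟨n', hn', hgn⟩ := hKN ω g
    have h1 : (T i).map (MulAut.conj n').toMonoidHom = T i :=
      mem_normalizer_iff_map_conj_eq.mp (h.norm i hn')
    have h4 : T l = (T i).map (MulAut.conj (g * n')).toMonoidHom := by
      rw [← map_conj_map_conj, h1, hg]
    have h5 : (stabilizer G ω).map (MulAut.conj (g * n')).toMonoidHom = stabilizer G ω :=
      mem_normalizer_iff_map_conj_eq.mp (le_normalizer hgn)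
    rw [← hj]
    change (stabilizer G ω).relIndex (T l) = (stabilizer G ω).relIndex (T i)
    rw [h4]
    conv_lhs => rw [← h5]
    exact relIndex_map_map_of_injective _ _ (MulAut.conj (g * n')).injective
  -- the product
  have h1 : Nat.card Ω = ((stabilizer G ω).subgroupOf N).index := by
    have h2 : (stabilizer N ω).index = Nat.card Ω := by
      rw [index_stabilizer, orbit_eq_univ, Set.ncard_univ]
    rw [← h2]
    rfl
  have hcN : Nat.card N = ∏ l, Nat.card (T l) := by
    rw [Nat.card_congr e.toEquiv, Nat.card_pi]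
  have hcH : Nat.card ((stabilizer G ω).subgroupOf N) =
      ∏ l, Nat.card ((stabilizer G ω).subgroupOf (T l)) := by
    rw [← Nat.card_pi]
    refine Nat.card_congr
      { toFun := fun x l => ⟨e x l, (hpf ω x).mp x.2 l⟩
        invFun := fun y => ⟨e.symm (fun l => (y l : T l)), by
          have := (hpf ω (e.symm (fun l => (y l : T l)))).mpr (by
            intro l
            rw [MulEquiv.apply_symm_apply]
            exact (y l).2)
          exact this⟩
        left_inv := fun x => by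
          apply Subtype.ext
          change e.symm (fun l => e x l) = x
          exact e.symm_apply_apply _
        right_inv := fun y => by
          funext l
          apply Subtype.ext
          change e (e.symm (fun l => (y l : T l))) l = _
          rw [MulEquiv.apply_symm_apply] }
  have h2 : ((stabilizer G ω).subgroupOf N).index = ∏ _l : Fin m, p ^ j := by
    have h3 := Subgroup.card_mul_index ((stabilizer G ω).subgroupOf N)
    have h4 : (∏ l, Nat.card ((stabilizer G ω).subgroupOf (T l))) *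
        (∏ l, ((stabilizer G ω).subgroupOf (T l)).index) = ∏ l, Nat.card (T l) := by
      rw [← Finset.prod_mul_distrib]
      exact Finset.prod_congr rfl fun l _ => Subgroup.card_mul_index _
    rw [hcN, ← h4, hcH] at h3
    have h5 := Nat.eq_of_mul_eq_mul_left
      (Finset.prod_pos fun l _ => (Nat.card_pos : 0 < Nat.card
        ((stabilizer G ω).subgroupOf (T l)))) h3
    rw [h5]
    exact Finset.prod_congr rfl fun l _ => hall l
  rw [Finset.prod_const, Finset.card_univ, Fintype.card_fin, ← h1, hΩ, ← pow_mul] at h2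
  exact (Nat.pow_right_injective hp.two_le h2).symm

/-- a point stabiliser is the normaliser of its intersection with the socle -/
theorem mem_stab_iff [Finite G] [FaithfulSMul G Ω] [Finite Ω] {p k : ℕ} (hp : p.Prime)
    (hk : 1 ≤ k) (hΩ : Nat.card Ω = p ^ k) (hG : IsPreprimitive G Ω) [N.Normal] (hN : N ≠ ⊥)
    (hmin : ∀ M : Subgroup G, M.Normal → M ≤ N → M = ⊥ ∨ M = N)
    (h : Fac N m T e) (ω : Ω) (g : G) :
    g ∈ stabilizer G ω ↔ ∀ n ∈ N, n ∈ stabilizer G ω → g * n * g⁻¹ ∈ stabilizer G ω := by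
  have hcard : 1 < Nat.card Ω := by rw [hΩ]; exact Nat.one_lt_pow (by omega) hp.one_lt
  have hntΩ : Nontrivial Ω := Finite.one_lt_card_iff_nontrivial.mp hcard
  constructor
  · intro hg n _ hn
    exact (stabilizer G ω).mul_mem ((stabilizer G ω).mul_mem hg hn) ((stabilizer G ω).inv_mem hg)
  intro hg
  obtain ⟨htr, hKN, hNK⟩ := prim_normal hG N hN
  obtain ⟨hpf, hidx⟩ := prod_form hp hk hΩ hG hN h
  have hco : IsCoatom (stabilizer G ω) := (isCoatom_stabilizer_iff_preprimitive G ω).mpr hG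
  have hle : stabilizer G ω ≤ normalizer ((stabilizer G ω ⊓ N : Subgroup G) : Set G) := by
    rw [le_normalizer_iff]
    intro k hk x hx
    exact ⟨(stabilizer G ω).mul_mem ((stabilizer G ω).mul_mem hk hx.1)
      ((stabilizer G ω).inv_mem hk), (inferInstance : N.Normal).conj_mem _ hx.2 k⟩
  have hgn : g ∈ normalizer ((stabilizer G ω ⊓ N : Subgroup G) : Set G) := by
    rw [mem_normalizer_iff_map_conj_eq]
    apply Subgroup.eq_of_le_of_card_ge
    · rintro _ ⟨x, hx, rfl⟩
      exact ⟨hg x hx.2 hx.1, (inferInstance : N.Normal).conj_mem _ hx.2 g⟩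
    · exact (Nat.card_congr ((stabilizer G ω ⊓ N).equivMapOfInjective _
        (MulAut.conj g).injective).toEquiv).le
  rcases hco.le_iff.mp hle with h1 | h1
  · exfalso
    have hn : (stabilizer G ω ⊓ N).Normal := Subgroup.normalizer_eq_top_iff.mp h1
    rcases hmin _ hn inf_le_right with h2 | h2
    · have i₀ : Fin m := ⟨0, h.pos⟩
      obtain ⟨j, hj, hji⟩ := hidx ω i₀
      have h3 : (stabilizer G ω).subgroupOf (T i₀) = ⊥ := by
        rw [eq_bot_iff]
        intro x hx
        rw [Subgroup.mem_bot]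
        apply Subtype.ext
        have : (x : G) ∈ stabilizer G ω ⊓ N := ⟨hx, h.le i₀ x.2⟩
        rw [h2] at this
        exact this
      rw [h3, Subgroup.index_bot] at hji
      exact not_simple_of_card_prime_pow hp (dvd_of_eq hji) (h.simple i₀) (h.nonab i₀)
    · apply hNK ω
      rw [← h2]
      exact inf_le_left
  · rwa [h1] at hgn

end Fac

/-- Automorphisms of a normal subgroup with trivial centralizer which normalise the image of the
group extend. -/
theorem exists_extend {G : Type*} [Group G] [Finite G] (N : Subgroup G) [N.Normal]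
    (hc : centralizer (N : Set G) = ⊥) (Γ : N ≃* N)
    (hΓ : ∀ g : G, ∃ g' : G, ∀ x : N, Γ (cj N g x) = cj N g' (Γ x)) :
    ∃ σ : G ≃* G, ∀ x : N, σ x = Γ x := by
  have huniq : ∀ g g' : G, (∀ x : N, cj N g x = cj N g' x) → g = g' := by
    intro g g' hgg
    have : g'⁻¹ * g ∈ centralizer (N : Set G) := by
      rw [mem_centralizer_iff]
      intro x hx
      have h1 : g * x * g⁻¹ = g' * x * g'⁻¹ := congrArg Subtype.val (hgg ⟨x, hx⟩)
      calc x * (g'⁻¹ * g) = g'⁻¹ * (g' * x * g'⁻¹) * g := by group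
        _ = g'⁻¹ * (g * x * g⁻¹) * g := by rw [h1]
        _ = g'⁻¹ * g * x := by group
    rw [hc, Subgroup.mem_bot, inv_mul_eq_one] at this
    exact this.symm
  have hcjm : ∀ (g g' : G) (x : N), cj N (g * g') x = cj N g (cj N g' x) := by
    intro g g' x
    apply Subtype.ext
    change g * g' * (x : G) * (g * g')⁻¹ = g * (g' * (x : G) * g'⁻¹) * g⁻¹
    group
  choose s hs using hΓ
  have hsm : ∀ g g', s (g * g') = s g * s g' := by
    intro g g'
    apply huniq
    intro x
    obtain ⟨y, rfl⟩ := Γ.surjective x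
    rw [← hs, hcjm, hcjm, hs, hs]
  have hinj : Function.Injective s := by
    intro g g' hgg
    apply huniq
    intro x
    apply Γ.injective
    rw [hs, hs, hgg]
  have hbij : Function.Bijective s := Finite.injective_iff_bijective.mp hinj
  refine ⟨{ Equiv.ofBijective s hbij with map_mul' := hsm }, fun x => ?_⟩
  change s x = Γ x
  apply huniq
  intro y
  obtain ⟨z, rfl⟩ := Γ.surjective y
  rw [← hs]
  have h1 : cj N (x : G) z = x * z * x⁻¹ := rfl
  rw [h1, map_mul, map_mul, map_inv]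
  rfl

section Main

variable {G : Type*} [Group G]
variable {N : Subgroup G} {m : ℕ} {T : Fin m → Subgroup G} {e : N ≃* (∀ i, T i)}

/-- conjugation as an isomorphism between the factors -/
noncomputable def kap {A B : Subgroup G} (g : G) (hg : B = A.map (MulAut.conj g).toMonoidHom) :
    A ≃* B :=
  ((MulAut.conj g).subgroupMap A).trans (MulEquiv.subgroupCongr hg.symm)

/-- The main construction -/
theorem exists_Gam [Finite G] [N.Normal] (h : Fac N m T e) (hc : centralizer (N : Set G) = ⊥)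
    (H₁ H₂ : Subgroup G)
    (hG₁ : ∀ g : G, ∃ n ∈ N, g * n ∈ H₁) (hG₂ : ∀ g : G, ∃ n ∈ N, g * n ∈ H₂)
    (hp₁ : ∀ n : N, (n : G) ∈ H₁ ↔ ∀ i, ((e n i : T i) : G) ∈ H₁)
    (hp₂ : ∀ n : N, (n : G) ∈ H₂ ↔ ∀ i, ((e n i : T i) : G) ∈ H₂) (i₀ : Fin m)
    (hout : ∀ α β : MulAut (T i₀), ∃ u : T i₀, α * β = MulAut.conj u * β * α)
    (γ₀ : MulAut (T i₀)) (hγ₀ : ∀ t : T i₀, (t : G) ∈ H₁ ↔ ((γ₀ t : T i₀) : G) ∈ H₂) :
    ∃ σ : G ≃* G, (∀ x, σ x ∈ N ↔ x ∈ N) ∧ (∀ x ∈ N, x ∈ H₁ ↔ σ x ∈ H₂) := by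
  classical
  choose g hg using fun i => h.trans i₀ i
  let κ : ∀ i, T i₀ ≃* T i := fun i => kap (g i) (hg i)
  have hκ : ∀ i (t : T i₀), ((κ i t : T i) : G) = g i * (t : G) * (g i)⁻¹ := fun i t => rfl
  let γ : ∀ i, T i ≃* T i := fun i => ((κ i).symm.trans γ₀).trans (κ i)
  have hγ : ∀ i (t : T i₀), γ i (κ i t) = κ i (γ₀ t) := by
    intro i t
    change κ i (γ₀ ((κ i).symm (κ i t))) = _
    rw [MulEquiv.symm_apply_apply]
  let Γ : N ≃* N := (e.trans (MulEquiv.piCongrRight γ)).trans e.symm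
  have hΓe : ∀ (n : N) i, e (Γ n) i = γ i (e n i) := by
    intro n i
    change e (e.symm (MulEquiv.piCongrRight γ (e n))) i = _
    rw [MulEquiv.apply_symm_apply]
    rfl
  have hsingle : ∀ i (t : T i), e ⟨(t : G), h.le i t.2⟩ = Pi.mulSingle i t := by
    intro i t
    apply e.symm.injective
    rw [MulEquiv.symm_apply_apply]
    apply Subtype.ext
    rw [h.single]
  have hΓs : ∀ i (t : T i), ((Γ ⟨(t : G), h.le i t.2⟩ : N) : G) = (γ i t : T i) := by
    intro i t
    rw [← h.single i (γ i t)]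
    congr 1
    apply e.injective
    rw [MulEquiv.apply_symm_apply]
    funext l
    rw [hΓe, hsingle]
    by_cases hl : l = i
    · subst hl
      rw [Pi.mulSingle_eq_same, Pi.mulSingle_eq_same]
    · rw [Pi.mulSingle_eq_of_ne hl, Pi.mulSingle_eq_of_ne hl, map_one]
  -- `Γ` normalises the image of `G`
  have hnorm : ∀ x : G, ∃ x' : G, ∀ y : N, Γ (cj N x y) = cj N x' (Γ y) := by
    intro x
    have hex : ∀ j, ∃ s : T j, ∀ i, ∀ hij : T j = (T i).map (MulAut.conj x).toMonoidHom,
        ∀ t : T i, ((γ j (kap x hij t) : T j) : G) =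
          (s : G) * (x * ((γ i t : T i) : G) * x⁻¹) * (s : G)⁻¹ := by
      intro j
      obtain ⟨i, hi⟩ := h.conj x⁻¹ j
      have hij : T j = (T i).map (MulAut.conj x).toMonoidHom := by
        rw [hi, map_conj_map_conj, mul_inv_cancel, map_conj_one]
      let δ : MulAut (T i₀) := ((κ i).trans (kap x hij)).trans (κ j).symm
      have hδ : ∀ t, κ j (δ t) = kap x hij (κ i t) := by
        intro t
        change κ j ((κ j).symm (kap x hij (κ i t))) = _
        rw [MulEquiv.apply_symm_apply]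
      obtain ⟨u, hu⟩ := hout γ₀ δ
      refine ⟨κ j u, ?_⟩
      intro i' hij' t
      have hii : i' = i := by
        apply h.inj
        exact Subgroup.map_injective (MulAut.conj x).injective (hij'.symm.trans hij)
      subst hii
      obtain ⟨t₀, rfl⟩ := (κ i').surjective t
      have h1 : kap x hij' (κ i' t₀) = κ j (δ t₀) := by
        rw [hδ]
      rw [h1, hγ]
      have h2 : γ₀ (δ t₀) = u * δ (γ₀ t₀) * u⁻¹ := by
        have := DFunLike.congr_fun hu t₀
        simpa only [MulAut.mul_apply, _root_.MulAut.conj_apply] using this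
      rw [h2, map_mul, map_mul, map_inv, hδ, hγ]
      rfl
    choose s hs using hex
    refine ⟨(e.symm s : N) * x, ?_⟩
    -- the subgroup of those `y` on which the formula holds
    let E : Subgroup (∀ i, T i) :=
      { carrier := {y | Γ (cj N x (e.symm y)) = cj N ((e.symm s : N) * x) (Γ (e.symm y))}
        one_mem' := by
          change Γ (cj N x (e.symm 1)) = cj N ((e.symm s : N) * x) (Γ (e.symm 1))
          have h1 : ∀ z : G, cj N z 1 = 1 := by
            intro z
            apply Subtype.ext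
            simp only [cj, _root_.OneMemClass.coe_one, _root_.mul_one, _root_.mul_inv_cancel]
          rw [map_one, h1, map_one, h1]
        mul_mem' := by
          intro a b ha hb
          change Γ (cj N x (e.symm (a * b))) = cj N ((e.symm s : N) * x) (Γ (e.symm (a * b)))
          rw [map_mul, cj_mul, map_mul, map_mul, cj_mul]
          exact congrArg₂ (· * ·) ha hb
        inv_mem' := by
          intro a ha
          change Γ (cj N x (e.symm a⁻¹)) = cj N ((e.symm s : N) * x) (Γ (e.symm a⁻¹))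
          rw [map_inv, cj_inv, map_inv, map_inv, cj_inv]
          exact congrArg (·⁻¹) ha }
    have hE : ∀ y, y ∈ E := by
      intro y
      apply Subgroup.pi_mem_of_mulSingle_mem
      intro i
      change Γ (cj N x (e.symm (Pi.mulSingle i (y i)))) =
        cj N ((e.symm s : N) * x) (Γ (e.symm (Pi.mulSingle i (y i))))
      obtain ⟨j, hij⟩ := h.conj x i
      have h1 : e.symm (Pi.mulSingle i (y i)) = ⟨(y i : G), h.le i (y i).2⟩ := by
        apply Subtype.ext
        rw [h.single]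
      have h2 : cj N x ⟨(y i : G), h.le i (y i).2⟩ =
          ⟨(kap x hij (y i) : G), h.le j (kap x hij (y i)).2⟩ := by
        apply Subtype.ext
        rfl
      rw [h1, h2]
      apply Subtype.ext
      rw [hΓs, hs j i hij]
      change _ = ((e.symm s : N) : G) * x * ((Γ ⟨(y i : G), h.le i (y i).2⟩ : N) : G) *
        (((e.symm s : N) : G) * x)⁻¹
      rw [hΓs]
      have h3 : x * ((γ i (y i) : T i) : G) * x⁻¹ ∈ T j := by
        rw [hij]
        exact ⟨_, (γ i (y i)).2, rfl⟩
      have h4 := conj_single h (e.symm s) j _ h3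
      rw [MulEquiv.apply_symm_apply] at h4
      rw [← h4]
      group
    intro y
    have := hE (e y)
    change Γ (cj N x (e.symm (e y))) = cj N ((e.symm s : N) * x) (Γ (e.symm (e y))) at this
    rwa [MulEquiv.symm_apply_apply] at this
  obtain ⟨σ, hσ⟩ := exists_extend N hc Γ hnorm
  -- matching of the subgroups
  have hn : ∀ i, ∃ n : T i, ∀ t : T i,
      (t : G) ∈ H₁ ↔ (n : G) * ((γ i t : T i) : G) * (n : G)⁻¹ ∈ H₂ := by
    intro i
    obtain ⟨a, ha, hga⟩ := hG₁ (g i)
    obtain ⟨b, hb, hgb⟩ := hG₂ (g i)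
    set a₀ := e ⟨a, ha⟩ i₀ with ha₀
    set b₀ := e ⟨b, hb⟩ i₀ with hb₀
    have h1 : ∀ t₀ : T i₀, ((κ i t₀ : T i) : G) ∈ H₁ ↔ (a₀ : G)⁻¹ * (t₀ : G) * a₀ ∈ H₁ := by
      intro t₀
      have h2 := conj_single h (⟨a, ha⟩ : N) i₀ ((a₀ : G)⁻¹ * (t₀ : G) * a₀)
        ((T i₀).mul_mem ((T i₀).mul_mem ((T i₀).inv_mem a₀.2) t₀.2) a₀.2)
      rw [← ha₀] at h2
      have h3 : (a₀ : G) * ((a₀ : G)⁻¹ * (t₀ : G) * a₀) * (a₀ : G)⁻¹ = t₀ := by group
      rw [h3] at h2
      have h4 : ((κ i t₀ : T i) : G) =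
          (g i * a) * ((a₀ : G)⁻¹ * (t₀ : G) * a₀) * (g i * a)⁻¹ := by
        have h2' : a * ((a₀ : G)⁻¹ * (t₀ : G) * a₀) * a⁻¹ = t₀ := h2
        rw [hκ]
        calc g i * (t₀ : G) * (g i)⁻¹ =
            g i * (a * ((a₀ : G)⁻¹ * (t₀ : G) * a₀) * a⁻¹) * (g i)⁻¹ := by rw [h2']
          _ = _ := by group
      rw [h4]
      constructor
      · intro h5
        have h6 := H₁.mul_mem (H₁.mul_mem (H₁.inv_mem hga) h5) hga
        have h7 : (g i * a)⁻¹ * ((g i * a) * ((a₀ : G)⁻¹ * (t₀ : G) * a₀) * (g i * a)⁻¹) *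
            (g i * a) = (a₀ : G)⁻¹ * (t₀ : G) * a₀ := by group
        rwa [h7] at h6
      · intro h5
        exact H₁.mul_mem (H₁.mul_mem hga h5) (H₁.inv_mem hga)
    have h1' : ∀ t₀ : T i₀, ((κ i t₀ : T i) : G) ∈ H₂ ↔ (b₀ : G)⁻¹ * (t₀ : G) * b₀ ∈ H₂ := by
      intro t₀
      have h2 := conj_single h (⟨b, hb⟩ : N) i₀ ((b₀ : G)⁻¹ * (t₀ : G) * b₀)
        ((T i₀).mul_mem ((T i₀).mul_mem ((T i₀).inv_mem b₀.2) t₀.2) b₀.2)
      rw [← hb₀] at h2
      have h3 : (b₀ : G) * ((b₀ : G)⁻¹ * (t₀ : G) * b₀) * (b₀ : G)⁻¹ = t₀ := by group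
      rw [h3] at h2
      have h4 : ((κ i t₀ : T i) : G) =
          (g i * b) * ((b₀ : G)⁻¹ * (t₀ : G) * b₀) * (g i * b)⁻¹ := by
        have h2' : b * ((b₀ : G)⁻¹ * (t₀ : G) * b₀) * b⁻¹ = t₀ := h2
        rw [hκ]
        calc g i * (t₀ : G) * (g i)⁻¹ =
            g i * (b * ((b₀ : G)⁻¹ * (t₀ : G) * b₀) * b⁻¹) * (g i)⁻¹ := by rw [h2']
          _ = _ := by group
      rw [h4]
      constructor
      · intro h5
        have h6 := H₂.mul_mem (H₂.mul_mem (H₂.inv_mem hgb) h5) hgb
        have h7 : (g i * b)⁻¹ * ((g i * b) * ((b₀ : G)⁻¹ * (t₀ : G) * b₀) * (g i * b)⁻¹) *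
            (g i * b) = (b₀ : G)⁻¹ * (t₀ : G) * b₀ := by group
        rwa [h7] at h6
      · intro h5
        exact H₂.mul_mem (H₂.mul_mem hgb h5) (H₂.inv_mem hgb)
    refine ⟨κ i (b₀ * (γ₀ a₀)⁻¹), ?_⟩
    intro t
    obtain ⟨t₀, rfl⟩ := (κ i).surjective t
    rw [h1, hγ]
    have h5 : (a₀ : G)⁻¹ * (t₀ : G) * a₀ = ((a₀⁻¹ * t₀ * a₀ : T i₀) : G) := rfl
    rw [h5, hγ₀]
    have h6 : ((κ i (b₀ * (γ₀ a₀)⁻¹) : T i) : G) * ((κ i (γ₀ t₀) : T i) : G) *
        ((κ i (b₀ * (γ₀ a₀)⁻¹) : T i) : G)⁻¹ =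
        ((κ i (b₀ * (γ₀ a₀)⁻¹ * γ₀ t₀ * (b₀ * (γ₀ a₀)⁻¹)⁻¹) : T i) : G) := by
      generalize b₀ * (γ₀ a₀)⁻¹ = w
      rw [map_mul, map_mul, map_inv]
      rfl
    rw [h6, h1']
    have h7 : (b₀ : G)⁻¹ * ((b₀ * (γ₀ a₀)⁻¹ * γ₀ t₀ * (b₀ * (γ₀ a₀)⁻¹)⁻¹ : T i₀) : G) * b₀ =
        ((γ₀ (a₀⁻¹ * t₀ * a₀) : T i₀) : G) := by
      rw [map_mul, map_mul, map_inv]
      simp only [Subgroup.coe_mul, Subgroup.coe_inv]
      group
    rw [h7]
  choose n hn using hn
  refine ⟨σ.trans (MulAut.conj ((e.symm n : N) : G)), ?_, ?_⟩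
  · have h1 : ∀ x ∈ N, (σ.trans (MulAut.conj ((e.symm n : N) : G))) x ∈ N := by
      intro x hx
      change ((e.symm n : N) : G) * σ x * ((e.symm n : N) : G)⁻¹ ∈ N
      apply (inferInstance : N.Normal).conj_mem
      rw [hσ ⟨x, hx⟩]
      exact (Γ ⟨x, hx⟩).2
    intro x
    refine ⟨fun hx => ?_, h1 x⟩
    -- surjectivity
    have h2 : N.map (σ.trans (MulAut.conj ((e.symm n : N) : G))).toMonoidHom = N := by
      apply Subgroup.eq_of_le_of_card_ge
      · rintro _ ⟨y, hy, rfl⟩
        exact h1 y hy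
      · exact (Nat.card_congr (N.equivMapOfInjective _
          (σ.trans (MulAut.conj ((e.symm n : N) : G))).injective).toEquiv).le
    have hx' : (σ.trans (MulAut.conj ((e.symm n : N) : G))) x ∈
        N.map (σ.trans (MulAut.conj ((e.symm n : N) : G))).toMonoidHom := h2.symm ▸ hx
    obtain ⟨y, hy, hyx⟩ := hx'
    exact (σ.trans (MulAut.conj ((e.symm n : N) : G))).injective hyx ▸ hy
  · intro x hx
    change _ ↔ ((e.symm n : N) : G) * σ x * ((e.symm n : N) : G)⁻¹ ∈ H₂
    rw [hσ ⟨x, hx⟩]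
    have h1 : ((e.symm n : N) : G) * ((Γ ⟨x, hx⟩ : N) : G) * ((e.symm n : N) : G)⁻¹ =
        ((e.symm n * Γ ⟨x, hx⟩ * (e.symm n)⁻¹ : N) : G) := rfl
    rw [h1, hp₂]
    have h2 := hp₁ ⟨x, hx⟩
    rw [h2]
    apply forall_congr'
    intro i
    rw [hn i]
    rw [map_mul, map_mul, map_inv, MulEquiv.apply_symm_apply, Pi.mul_apply, Pi.mul_apply,
      Pi.inv_apply, hΓe]
    rfl

end Main

/-- The reduction. -/
theorem equiv_of_row {G Ω₁ Ω₂ : Type*} [Group G] [Finite G] [MulAction G Ω₁] [FaithfulSMul G Ω₁]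
    [Finite Ω₁] [MulAction G Ω₂] [FaithfulSMul G Ω₂] [Finite Ω₂]
    (p k : ℕ) (hp : p.Prime) (hk : 1 ≤ k) (h₁ : Nat.card Ω₁ = p ^ k) (h₂ : Nat.card Ω₂ = p ^ k)
    (hprim₁ : IsPreprimitive G Ω₁) (hprim₂ : IsPreprimitive G Ω₂)
    (hrow : ∀ T : Subgroup G, IsSimpleGroup T → (∃ a b : T, a * b ≠ b * a) → Row T p) :
    ∃ (σ : G ≃* G) (f : Ω₁ ≃ Ω₂), ∀ (g : G) (x : Ω₁), f (g • x) = σ g • f x := by
  have hcard₁ : 1 < Nat.card Ω₁ := by rw [h₁]; exact Nat.one_lt_pow (by omega) hp.one_lt
  have hnt₁ : Nontrivial Ω₁ := Finite.one_lt_card_iff_nontrivial.mp hcard₁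
  have hcard₂ : 1 < Nat.card Ω₂ := by rw [h₂]; exact Nat.one_lt_pow (by omega) hp.one_lt
  have hnt₂ : Nontrivial Ω₂ := Finite.one_lt_card_iff_nontrivial.mp hcard₂
  have htr₁ : IsPretransitive G Ω₁ := inferInstance
  have htr₂ : IsPretransitive G Ω₂ := inferInstance
  obtain ⟨x₁⟩ := (inferInstance : Nonempty Ω₁)
  obtain ⟨x₂⟩ := (inferInstance : Nonempty Ω₂)
  suffices hσ : ∃ σ : G ≃* G, ∀ g : G, g • x₁ = x₁ ↔ σ g • x₂ = x₂ by
    obtain ⟨σ, hσ⟩ := hσ
    obtain ⟨f, hf⟩ := exists_equiv x₁ x₂ σ hσ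
    exact ⟨σ, f, hf⟩
  rcases ppow_socle hp hk h₁ hprim₁ with ⟨N, hN, hab, htr, hst⟩ |
      ⟨N, hN, m, T, e, h, hNb, hmin, hc, htr, -, -⟩
  · -- the affine case
    have hNb : N ≠ ⊥ := by
      rintro rfl
      obtain ⟨a, b, hab'⟩ := exists_pair_ne Ω₁
      obtain ⟨⟨g, hg⟩, hgab⟩ := _root_.MulAction.exists_smul_eq (⊥ : Subgroup G) a b
      rw [Subgroup.mem_bot] at hg
      subst hg
      apply hab'
      rw [← hgab]
      exact (one_smul G a).symm
    obtain ⟨htr', -, -⟩ := prim_normal hprim₂ N hNb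
    refine exists_aut_of_regular N (fun x hx y hy => hab x hx y hy) x₁ x₂ ?_ ?_ ?_ ?_
    · intro g
      obtain ⟨n, hn⟩ := _root_.MulAction.exists_smul_eq N x₁ (g • x₁)
      exact ⟨n, n.2, hn⟩
    · intro n hn hnx
      exact stabilizer_eq_bot_of_comm N N (fun x hx y hy => hab x hx y hy) htr x₁ n hn hnx
    · intro g
      obtain ⟨n, hn⟩ := _root_.MulAction.exists_smul_eq N x₂ (g • x₂)
      exact ⟨n, n.2, hn⟩
    · intro n hn hnx
      exact stabilizer_eq_bot_of_comm N N (fun x hx y hy => hab x hx y hy) htr' x₂ n hn hnx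
  · obtain ⟨-, hKN₁, -⟩ := prim_normal hprim₁ N hNb
    obtain ⟨-, hKN₂, -⟩ := prim_normal hprim₂ N hNb
    obtain ⟨hpf₁, hidx₁⟩ := prod_form hp hk h₁ hprim₁ hNb h
    obtain ⟨hpf₂, hidx₂⟩ := prod_form hp hk h₂ hprim₂ hNb h
    have i₀ : Fin m := ⟨0, h.pos⟩
    obtain ⟨j₁, hj₁, hj₁i⟩ := hidx₁ x₁ i₀
    obtain ⟨j₂, hj₂, hj₂i⟩ := hidx₂ x₂ i₀
    have e₁ := index_eq hp hk h₁ hprim₁ hNb h x₁ i₀ j₁ hj₁i
    have e₂ := index_eq hp hk h₂ hprim₂ hNb h x₂ i₀ j₂ hj₂i
    have hjj : j₁ = j₂ := Nat.eq_of_mul_eq_mul_right h.pos (e₁.trans e₂.symm)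
    subst hjj
    obtain ⟨hout, γ₀, hγ₀⟩ := hrow (T i₀) (h.simple i₀) (h.nonab i₀) _ _ j₁ hj₁ hj₁i hj₂i
    obtain ⟨σ, hσN, hσ⟩ := exists_Gam h hc (stabilizer G x₁) (stabilizer G x₂) (hKN₁ x₁)
      (hKN₂ x₂) (hpf₁ x₁) (hpf₂ x₂) i₀ hout γ₀ hγ₀
    refine ⟨σ, fun g => ?_⟩
    rw [← mem_stabilizer_iff, ← mem_stabilizer_iff,
      mem_stab_iff hp hk h₁ hprim₁ hNb hmin h x₁ g,
      mem_stab_iff hp hk h₂ hprim₂ hNb hmin h x₂ (σ g)]
    constructor
    · intro h3 n hn hn2
      obtain ⟨y, rfl⟩ := σ.surjective n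
      have hyN : y ∈ N := (hσN y).mp hn
      have h4 := h3 y hyN ((hσ y hyN).mpr hn2)
      have h5 := (hσ _ (hN.conj_mem _ hyN g)).mp h4
      rwa [map_mul, map_mul, map_inv] at h5
    · intro h3 n hn hn2
      rw [hσ _ (hN.conj_mem _ hn g), map_mul, map_mul, map_inv]
      exact h3 (σ n) ((hσN n).mpr hn) ((hσ n hn).mp hn2)

end Cfsg.Agent.H561.PPow
end

-- part: H561/PPRowA
section
/-!
# Subgroups of the same prime power index: alternating and linear groups
-/

set_option autoImplicit false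

namespace Cfsg.Agent.H561.PPow

open Subgroup

/-- Subgroups of index `n` are conjugate in the automorphism group. -/
def RowAt (T : Type*) [Group T] (n : ℕ) : Prop :=
  ∀ A B : Subgroup T, A.index = n → B.index = n → ∃ γ : MulAut T, ∀ t : T, t ∈ A ↔ γ t ∈ B

variable {T T' : Type*} [Group T] [Group T']

theorem RowAt.of_equiv {n : ℕ} (f : T ≃* T') (h : RowAt T' n) : RowAt T n := by
  intro A B hA hB
  have hidx : ∀ A : Subgroup T, (A.map f.toMonoidHom).index = A.index := fun A =>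
    A.index_map_equiv f
  have hmem : ∀ (A : Subgroup T) (t : T), f t ∈ A.map f.toMonoidHom ↔ t ∈ A := by
    intro A t
    constructor
    · rintro ⟨s, hs, hst⟩
      exact f.injective hst ▸ hs
    · intro ht
      exact ⟨t, ht, rfl⟩
  obtain ⟨γ, hγ⟩ := h (A.map f.toMonoidHom) (B.map f.toMonoidHom)
    (by rw [hidx, hA]) (by rw [hidx, hB])
  refine ⟨(f.trans γ).trans f.symm, fun t => ?_⟩
  rw [← hmem A, hγ, ← hmem B]
  simp only [MulEquiv.trans_apply, MulEquiv.apply_symm_apply]

theorem RowAt.of_base {n : ℕ} (P : Subgroup T)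
    (h : ∀ A : Subgroup T, A.index = n → ∃ γ : MulAut T, ∀ t : T, t ∈ A ↔ γ t ∈ P) : RowAt T n := by
  intro A B hA hB
  obtain ⟨α, hα⟩ := h A hA
  obtain ⟨β, hβ⟩ := h B hB
  refine ⟨β⁻¹ * α, fun t => ?_⟩
  rw [hα, hβ, MulAut.mul_apply, MulAut.apply_inv_self]

theorem RowAt.of_conj {n : ℕ} (h : ∀ A B : Subgroup T, A.index = n → B.index = n →
    ∃ g : T, ∀ t ∈ A, g * t * g⁻¹ ∈ B) [Finite T] : RowAt T n := by
  intro A B hA hB
  obtain ⟨g, hg⟩ := h A B hA hB
  have h1 : A.map (MulAut.conj g).toMonoidHom = B := by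
    apply Subgroup.eq_of_le_of_card_ge
    · rintro _ ⟨t, ht, rfl⟩
      exact hg t ht
    · have h2 := B.card_mul_index
      have h3 := A.card_mul_index
      rw [hB] at h2
      rw [hA, ← h2] at h3
      have h4 : 0 < n := by
        rw [← hA]
        exact Nat.pos_of_ne_zero Subgroup.index_ne_zero_of_finite
      rw [← Nat.eq_of_mul_eq_mul_right h4 h3]
      exact (Nat.card_congr (A.equivMapOfInjective _ (MulAut.conj g).injective).toEquiv).le
  refine ⟨MulAut.conj g, fun t => ?_⟩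
  rw [← h1]
  constructor
  · intro ht
    exact ⟨t, ht, rfl⟩
  · rintro ⟨s, hs, hst⟩
    exact (MulAut.conj g).injective hst ▸ hs

/-- The linear groups. -/
theorem rowAt_psl {d : ℕ} (hd : 2 ≤ d) {F : Type*} [Field F] [Fintype F] {n : ℕ}
    (hn : Fintype.card F ^ d - 1 = n * (Fintype.card F - 1)) :
    RowAt (Matrix.ProjectiveSpecialLinearGroup (Fin d) F) n :=
  RowAt.of_base (PPSL.PP d hd F) fun A hA => PPSL.psl_point hd A (by rw [hA, hn])

/-- The alternating groups. -/
theorem rowAt_of_card [Finite T] (hs : IsSimpleGroup T) {n : ℕ} (hn : 2 ≤ n)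
    (hT : 2 * Nat.card T = n.factorial) : RowAt T n := by
  classical
  -- the action on the cosets
  have key : ∀ A : Subgroup T, A.index = n → ∃ (_ : Fintype (T ⧸ A))
      (f : T ≃* alternatingGroup (T ⧸ A)), ∀ t : T, t ∈ A ↔
        (f t : Equiv.Perm (T ⧸ A)) (QuotientGroup.mk 1) = QuotientGroup.mk 1 := by
    intro A hA
    have hft : Fintype (T ⧸ A) := Fintype.ofFinite _
    refine ⟨hft, ?_⟩
    let φ := MulAction.toPermHom T (T ⧸ A)
    have hφ : ∀ t : T, t ∈ A ↔ φ t (QuotientGroup.mk 1) = QuotientGroup.mk 1 := by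
      intro t
      change _ ↔ QuotientGroup.mk (t * 1) = QuotientGroup.mk 1
      rw [mul_one]
      constructor
      · intro ht
        exact (QuotientGroup.eq.2 (by simpa using A.inv_mem ht))
      · intro h
        have := QuotientGroup.eq.1 h
        rw [mul_one] at this
        exact (Subgroup.inv_mem_iff A).1 this
    have hker : φ.ker = ⊥ := by
      rcases hs.eq_bot_or_eq_top_of_normal φ.ker inferInstance with h | h
      · exact h
      · exfalso
        have hAt : A = ⊤ := by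
          rw [eq_top_iff]
          intro t _
          rw [hφ]
          have : t ∈ φ.ker := by rw [h]; exact mem_top t
          rw [MonoidHom.mem_ker.1 this]
          rfl
        rw [hAt, Subgroup.index_top] at hA
        omega
    have hinj : Function.Injective φ := (MonoidHom.ker_eq_bot_iff φ).1 hker
    have hidx : φ.range.index = 2 := by
      have h1 := φ.range.card_mul_index
      have h2 : Nat.card φ.range = Nat.card T :=
        (Nat.card_congr (MonoidHom.ofInjective hinj).toEquiv).symm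
      have h3 : Nat.card (Equiv.Perm (T ⧸ A)) = n.factorial := by
        rw [Nat.card_perm]
        congr 1
      rw [h2, h3, ← hT, mul_comm] at h1
      exact Nat.eq_of_mul_eq_mul_right Nat.card_pos h1
    have hr := Equiv.Perm.eq_alternatingGroup_of_index_eq_two hidx
    refine ⟨(MonoidHom.ofInjective hinj).trans (MulEquiv.subgroupCongr hr), fun t => ?_⟩
    rw [hφ]
    rfl
  intro A B hA hB
  obtain ⟨iA, fA, hfA⟩ := key A hA
  obtain ⟨iB, fB, hfB⟩ := key B hB
  have hcard : Fintype.card (T ⧸ A) = Fintype.card (T ⧸ B) := by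
    rw [← Nat.card_eq_fintype_card, ← Nat.card_eq_fintype_card]
    exact hA.trans hB.symm
  let ε₀ : (T ⧸ A) ≃ (T ⧸ B) := Fintype.equivOfCardEq hcard
  let ε : (T ⧸ A) ≃ (T ⧸ B) := ε₀.trans (Equiv.swap (ε₀ (QuotientGroup.mk 1)) (QuotientGroup.mk 1))
  have hε : ε (QuotientGroup.mk 1) = QuotientGroup.mk 1 := by
    change Equiv.swap (ε₀ (QuotientGroup.mk 1)) (QuotientGroup.mk 1) (ε₀ (QuotientGroup.mk 1)) = _
    rw [Equiv.swap_apply_left]
  refine ⟨(fA.trans (Equiv.altCongrHom ε)).trans fB.symm, fun t => ?_⟩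
  rw [hfB, hfA]
  change _ ↔ ((fB (fB.symm (Equiv.altCongrHom ε (fA t))) : alternatingGroup (T ⧸ B)) :
    Equiv.Perm (T ⧸ B)) _ = _
  rw [MulEquiv.apply_symm_apply, Equiv.altCongrHom_apply_coe]
  change _ ↔ ε ((fA t : Equiv.Perm (T ⧸ A)) (ε.symm (QuotientGroup.mk 1))) = QuotientGroup.mk 1
  have h1 : ε.symm (QuotientGroup.mk 1) = QuotientGroup.mk 1 := by
    rw [Equiv.symm_apply_eq, hε]
  rw [h1]
  constructor
  · intro h
    rw [h, hε]
  · intro h
    apply ε.injective
    rw [h, hε]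

theorem rowAt_alt {n : ℕ} (hn : 5 ≤ n) : RowAt (alternatingGroup (Fin n)) n := by
  have : Nontrivial (Fin n) := Fin.nontrivial_iff_two_le.2 (by omega)
  apply rowAt_of_card
  · exact alternatingGroup.isSimpleGroup (by rw [Nat.card_fin]; exact hn)
  · omega
  · rw [two_mul_nat_card_alternatingGroup, Nat.card_perm, Nat.card_fin]

theorem bound (r d : ℕ) (hr : 1 ≤ r) (hd : 3 ≤ d) :
    (r ^ 2 + 2 * r) * d + 2 < 2 * (r + 1) ^ d := by
  induction d, hd using Nat.le_induction with
  | base =>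
    have h1 : 1 ≤ r ^ 2 := Nat.one_le_pow _ _ hr
    have h2 : 1 ≤ r ^ 3 := Nat.one_le_pow _ _ hr
    ring_nf
    linarith only [h1, h2]
  | succ d hd ih =>
    rw [pow_succ (r + 1) d]
    have h1 : 2 ≤ r + 1 := by omega
    have h2 : 2 * (r + 1) ^ d * 2 ≤ 2 * (r + 1) ^ d * (r + 1) := Nat.mul_le_mul_left _ h1
    have h3 : (r ^ 2 + 2 * r) * 3 ≤ (r ^ 2 + 2 * r) * d := Nat.mul_le_mul_left _ hd
    linarith only [ih, h2, h3, _root_.sq_nonneg (↑r : ℤ)]

theorem gcd_eq_one {q d p j : ℕ} (hq : 2 ≤ q) (hd : 3 ≤ d) (hp : p.Prime)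
    (h : q ^ d - 1 = p ^ j * (q - 1)) : Nat.gcd d (q - 1) = 1 := by
  by_contra hne
  obtain ⟨l, hl, hld⟩ := Nat.exists_prime_and_dvd hne
  have hl1 : l ∣ d := hld.trans (Nat.gcd_dvd_left _ _)
  have hl2 : l ∣ q - 1 := hld.trans (Nat.gcd_dvd_right _ _)
  have hlf : Fact l.Prime := ⟨hl⟩
  have hpf : Fact p.Prime := ⟨hp⟩
  have hlq : ¬ l ∣ q := by
    intro hlq
    have h1 : l ∣ q - (q - 1) := Nat.dvd_sub hlq hl2
    rw [Nat.sub_sub_self (by omega)] at h1
    exact hl.one_lt.ne' (Nat.dvd_one.1 h1)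
  have hq1 : q - 1 ≠ 0 := by omega
  have hpj : p ^ j ≠ 0 := pow_ne_zero _ hp.ne_zero
  have hv : padicValNat l (q ^ d - 1) = padicValNat l (p ^ j) + padicValNat l (q - 1) := by
    rw [h, padicValNat.mul hpj hq1]
  have hb := bound (q - 1) d (by omega) hd
  rw [Nat.sub_add_cancel (by omega : 1 ≤ q)] at hb
  have h1 : 1 ≤ q ^ d := Nat.one_le_pow _ _ (by omega)
  have hdv : 1 ≤ padicValNat l d := one_le_padicValNat_of_dvd (by omega) hl1
  have hd' : l ^ padicValNat l d ≤ d := Nat.le_of_dvd (by omega) pow_padicValNat_dvd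
  rcases hl.eq_two_or_odd' with rfl | hodd
  · -- `l = 2`
    have h2 := padicValNat.pow_two_sub_one (x := q) (n := d) (by omega) hlq (by omega)
      (even_iff_two_dvd.2 hl1)
    have hq2 : 1 ≤ padicValNat 2 (q + 1) := by
      apply one_le_padicValNat_of_dvd (by omega)
      omega
    have hpl : p = 2 := by
      by_contra hne2
      have h3 : padicValNat 2 (p ^ j) = 0 := by
        rw [padicValNat.pow, padicValNat_primes (Ne.symm hne2), mul_zero]
      omega
    subst hpl
    rw [padicValNat.prime_pow] at hv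
    have h3 : j + 1 = padicValNat 2 (q + 1) + padicValNat 2 d := by omega
    have h4 : 2 ^ padicValNat 2 (q + 1) ≤ q + 1 := Nat.le_of_dvd (by omega) pow_padicValNat_dvd
    have h5 : 2 ^ (j + 1) ≤ (q + 1) * d := by
      rw [h3, pow_add]
      exact Nat.mul_le_mul h4 hd'
    have h6 : 2 * (2 ^ j * (q - 1)) ≤ (q + 1) * d * (q - 1) := by
      calc 2 * (2 ^ j * (q - 1)) = 2 ^ (j + 1) * (q - 1) := by ring
        _ ≤ _ := Nat.mul_le_mul_right _ h5
    rw [← h] at h6
    obtain ⟨r, rfl⟩ : ∃ r, q = r + 1 := ⟨q - 1, by (clear * - hq; omega)⟩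
    rw [Nat.add_sub_cancel] at hb h6
    have h7 : (r + 1 + 1) * d * r = (r ^ 2 + 2 * r) * d := by ring
    rw [h7] at h6
    omega
  · -- `l` odd
    have h2 := padicValNat.pow_sub_pow (p := l) hodd (x := q) (y := 1) (by omega) hl2 hlq
      (n := d) (by omega)
    rw [one_pow] at h2
    have hpl : p = l := by
      by_contra hne2
      have h3 : padicValNat l (p ^ j) = 0 := by
        rw [padicValNat.pow, padicValNat_primes (Ne.symm hne2), mul_zero]
      omega
    subst hpl
    rw [padicValNat.prime_pow] at hv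
    have h3 : j = padicValNat p d := by omega
    rw [← h3] at hd'
    have h6 : 2 * (p ^ j * (q - 1)) ≤ 2 * (d * (q - 1)) :=
      Nat.mul_le_mul_left _ (Nat.mul_le_mul_right _ hd')
    rw [← h] at h6
    obtain ⟨r, rfl⟩ : ∃ r, q = r + 1 := ⟨q - 1, by omega⟩
    rw [Nat.add_sub_cancel] at hb h6
    have h7 : 2 * (d * r) ≤ (r ^ 2 + 2 * r) * d := by
      have : (r ^ 2 + 2 * r) * d = 2 * (d * r) + r ^ 2 * d := by ring
      omega
    (clear * - hb h6 h7; omega)

end Cfsg.Agent.H561.PPow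
end

private theorem dce_495b1b32c2a5 : _root_.True := by
  try have : _root_.True := by simp only [_root_.Cfsg.Agent.H561.PPSL.Lm.eq_1]
  try have : _root_.True := by simp only [_root_.Cfsg.Agent.H561.PPSL.pt.eq_1]
  try have : _root_.True := by simp only [_root_.Cfsg.Agent.H79.MinIdxSL.kap.eq_1]
  try have : _root_.True := by simp only [_root_.Cfsg.Agent.H79.MinIdxSL.co.eq_1]
  exact _root_.True.intro
end

-- part: H561/PPRowL
section
set_option linter.all false
open scoped Cfsg.Agent.FastGrp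

/-!
# Subgroups of index 11 of `PSL₂(11)`
-/

set_option autoImplicit false
open scoped Pointwise

namespace Cfsg.Agent.H561.PPow

open Subgroup
open Cfsg.Agent.H163.PSLEleven Cfsg.Agent.H163.AltFive Cfsg.Agent.H163.TwoClasses

/-- A solvable group of order `15 * m` with `m` prime to 15 contains an element of order 15. -/
theorem exists_fifteen {A : Type*} [Group A] [Finite A] (hA : Group.IsSolvable A) (m : ℕ)
    (hm : Nat.card A = 15 * m) (hc : Nat.Coprime 15 m) : ∃ x : A, orderOf x = 15 := by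
  obtain ⟨H, hH⟩ := Cfsg.Agent.S0003.result 15 m hm hc
  obtain ⟨x, hx⟩ := Cfsg.Agent.H495.Frob.isCyclic_of_card_fifteen hH
  exact ⟨x, by rw [Subgroup.orderOf_coe]; exact hx⟩

section

variable {F : Type*} [Field F] [Fintype F]

theorem charP_eleven (hF : Fintype.card F = 11) : CharP F 11 := by
  have : Fact (Nat.Prime 11) := ⟨by norm_num⟩
  exact charP_of_card_eq_prime hF

/-- There is no element of order 15. -/
theorem orderOf_ne_fifteen (hF : Fintype.card F = 11) (g : PSL F) : orderOf g ≠ 15 := by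
  intro h
  have : Fact (Nat.Prime 11) := ⟨by norm_num⟩
  have := charP_eleven hF
  have := Cfsg.Agent.H363.PSL2Spec.orderOf_cases hF 11 g
  rw [h] at this
  revert this
  decide

/-- A subgroup of order 60 is conjugate in the automorphism group to a fixed one. -/
theorem rowAt_psl_eleven (hF : Fintype.card F = 11) : RowAt (PSL F) 11 := by
  apply RowAt.of_base (closure {a0 F, b0 hF})
  intro A hA
  have hcA : Nat.card A = 60 := by
    have h1 := A.card_mul_index
    rw [hA, S2543.card_psl hF] at h1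
    omega
  have hns : ¬ Group.IsSolvable A := by
    intro hs
    obtain ⟨x, hx⟩ := exists_fifteen hs 4 (by rw [hcA]) (by decide)
    exact orderOf_ne_fifteen hF (x : PSL F) (by rw [Subgroup.orderOf_coe]; exact hx)
  obtain ⟨e⟩ := Cfsg.Agent.H352.Order120.alt5_of_card_60 hcA hns
  obtain ⟨a, b, hcl, hty, -⟩ := S2543.sub_structure hF e
  obtain ⟨g, hg⟩ := canonical_psl hF hty
  -- conjugation
  have hconj : MulAut.conj g • A = closure {g * a * g⁻¹, g * b * g⁻¹} := by
    rw [← hcl, S2543.conj_closure]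
  have hmem : ∀ t : PSL F, t ∈ A ↔ MulAut.conj g t ∈ MulAut.conj g • A := by
    intro t
    exact Subgroup.smul_mem_pointwise_smul_iff.symm
  rcases hg with ⟨h1, h2⟩ | ⟨h1, h2⟩
  · refine ⟨MulAut.conj g, fun t => ?_⟩
    rw [hmem, hconj, h1, h2]
  · obtain ⟨δ, -, -, h3, h4⟩ := S2543.delta_exists hF
    refine ⟨δ * MulAut.conj g, fun t => ?_⟩
    rw [hmem, hconj, h1, h2, MulAut.mul_apply]
    have h5 : (closure {a0' F, b0' hF}).map δ.toMonoidHom = closure {a0 F, b0 hF} := by
      rw [MonoidHom.map_closure, Set.image_pair]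
      change closure {δ (a0' F), δ (b0' hF)} = _
      rw [h3, h4]
    rw [← h5]
    constructor
    · intro ht
      exact ⟨_, ht, rfl⟩
    · rintro ⟨s, hs, hst⟩
      rw [← δ.injective hst]
      exact hs

end

end Cfsg.Agent.H561.PPow
end
end
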