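import Mathlib
import Cfsg.Agent.H561.PPRowL
import Cfsg.Agent.SectRankFour.AutM11
import Cfsg.Agent.SporadicA.T23
import Cfsg.Agent.Schreier.MTwentyThree
import Cfsg.Agent.KFacts.M23.OutOne
import Cfsg.Agent.Prune
set_option linter.all false
prune_inst 0x7f00000000000000000000000000000000000000000000000000000000000000000000000000000000000000000000000000000000000000000000000000000000000000000000000000000000000000003fffffffffffffffffffffffffffbeffbdffffffff
open scoped Cfsg.Agent.FastGrp

/-!
# Subgroups of prime power index of the Mathieu groups of degrees 11 and 23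
-/

set_option autoImplicit false

namespace Cfsg.Agent.H561.PPow

open Subgroup Cfsg.Agent.SporadicA.SharpFour

/-- The Mathieu group of degree 11. -/
theorem rowAt_m11 {G : Type*} [Group G] [Finite G] (hG : Cfsg.IsM11 G) : RowAt G 11 := by
  classical
  obtain ⟨X, i1, i2, i3, h11, h⟩ := SectRankFour.AutM11.exists_sharp4 hG
  have hcard : Nat.card G = 7920 := hG.2
  -- transitivity
  have htr : ∀ a b : X, ∃ g : G, g • a = b := by
    intro a b
    have hc : 3 ≤ (({a, b} : Finset X)ᶜ).card := by
      rw [Finset.card_compl, h11]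
      have := Finset.card_le_two (a := a) (b := b)
      omega
    obtain ⟨t, hts, ht⟩ := Finset.exists_subset_card_eq hc
    obtain ⟨x, y, z, hxy, hxz, hyz, rfl⟩ := Finset.card_eq_three.1 ht
    have hx : x ≠ a ∧ x ≠ b := by
      have := hts (show x ∈ ({x, y, z} : Finset X) by simp)
      simpa using this
    have hy : y ≠ a ∧ y ≠ b := by
      have := hts (show y ∈ ({x, y, z} : Finset X) by simp)
      simpa using this
    have hz : z ≠ a ∧ z ≠ b := by
      have := hts (show z ∈ ({x, y, z} : Finset X) by simp)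
      simpa using this
    obtain ⟨g, hg, -⟩ := h.exists_map a x y z b x y z
      (nodup4_iff.2 ⟨hx.1.symm, hy.1.symm, hz.1.symm, hxy, hxz, hyz⟩)
      (nodup4_iff.2 ⟨hx.2.symm, hy.2.symm, hz.2.symm, hxy, hxz, hyz⟩)
    exact ⟨g, hg⟩
  have hidx : ∀ a : X, (MulAction.stabilizer G a).index = 11 := by
    intro a
    rw [MulAction.index_stabilizer, ← h11, ← Nat.card_eq_fintype_card, ← Set.ncard_univ]
    congr 1
    rw [Set.eq_univ_iff_forall]
    intro b
    obtain ⟨g, hg⟩ := htr a b
    exact ⟨g, hg⟩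
  have key : ∀ A : Subgroup G, A.index = 11 → ∃ b : X, A = MulAction.stabilizer G b := by
    intro A hA
    have hc : Nat.card A = 720 := by
      have := A.card_mul_index
      rw [hA, hcard] at this
      omega
    obtain ⟨b, hb⟩ := SectRankFour.AutM11.exists_fixed h h11 A hc
    refine ⟨b, Subgroup.eq_of_le_of_card_ge hb ?_⟩
    have := (MulAction.stabilizer G b).card_mul_index
    rw [hidx, hcard] at this
    omega
  apply RowAt.of_conj
  intro A B hA hB
  obtain ⟨a, rfl⟩ := key A hA
  obtain ⟨b, rfl⟩ := key B hB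
  obtain ⟨g, hg⟩ := htr a b
  refine ⟨g, fun t ht => ?_⟩
  rw [MulAction.mem_stabilizer_iff] at ht ⊢
  rw [← hg, mul_smul, mul_smul, inv_smul_smul, ht]

theorem outAb_m11 {G : Type*} [Group G] [Finite G] (hG : Cfsg.IsM11 G) : OutAb G :=
  OutAb.of_inner fun φ => SectRankFour.AutM11.exists_conj hG φ

open Cfsg.Agent.Schreier.MTwentyThree in
/-- The Mathieu group of degree 23. -/
theorem rowAt_M23 : RowAt Cfsg.Spor.M23 23 := by
  have key : ∀ A : Subgroup Cfsg.Spor.M23, A.index = 23 →
      ∃ y, y ≠ none ∧ A = St y := by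
    intro A hA
    have hc : Nat.card A = 443520 := by
      have h1 := A.card_mul_index
      rw [hA, Cfsg.Agent.SporadicA.MathieuRecog.card_M23] at h1
      omega
    obtain ⟨y, hy0, hy⟩ := exists_fixed (A.map (Subgroup.inclusion M23_le_M24))
      (by rw [Subgroup.card_map_of_injective (Subgroup.inclusion_injective M23_le_M24), hc])
      (p := none)
      (by
        rintro _ ⟨m, -, rfl⟩
        exact apply_none m)
    refine ⟨y, hy0, ?_⟩
    apply Subgroup.eq_of_le_of_card_ge
    · intro m hm
      exact hy _ ⟨m, hm, rfl⟩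
    · rw [hc, card_St hy0]
  apply RowAt.of_conj
  intro A B hA hB
  obtain ⟨a, ha, rfl⟩ := key A hA
  obtain ⟨b, hb, rfl⟩ := key B hB
  obtain ⟨g, hg⟩ := exists_one ha hb
  refine ⟨g, fun t ht => ?_⟩
  rw [← hg, ← map_conj_St]
  exact ⟨t, ht, rfl⟩

theorem isoM23_of_index {G : Type*} [Group G] [Finite G] (hG : Cfsg.IsM23 G) (A : Subgroup G)
    (hA : A.index = 23) : Cfsg.Spor.IsoM23 G :=
  SporadicA.T23.isoM23_of_index hG A hA

theorem rowAt_m23 {G : Type*} [Group G] [Finite G] (hG : Cfsg.Spor.IsoM23 G) : RowAt G 23 := by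
  obtain ⟨e⟩ := hG
  exact RowAt.of_equiv e rowAt_M23

theorem outAb_m23 {G : Type*} [Group G] [Finite G] (hG : Cfsg.Spor.IsoM23 G) : OutAb G :=
  OutAb.of_inner fun φ => by
    obtain ⟨k, hk⟩ := KFacts.M23.OutOne.exists_conj' hG φ
    exact ⟨k, MulEquiv.ext hk⟩

end Cfsg.Agent.H561.PPow
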